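import Cfsg.Agent.Class.FG.Linear

/-!
# Counting self-dual polynomials
-/

set_option autoImplicit false

namespace Cfsg.Agent.Class.FG

open Polynomial
open Cfsg.Agent.Class.Wall (dual)

variable {F : Type*} [Field F] {σ : F →+* F}

theorem card_eq_card_range_mul {G H : Type*} [AddCommGroup G] [AddCommGroup H] (φ : G →+ H) :
    Nat.card G = Nat.card φ.range * Nat.card φ.ker := by
  rw [AddSubgroup.card_eq_card_quotient_mul_card_addSubgroup φ.ker,
    Nat.card_congr (QuotientAddGroup.quotientKerEquivRange φ).toEquiv]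

/-- Fixed points of a semilinear involution. -/
theorem card_fixed_sq {V : Type*} [AddCommGroup V] [Module F V] (τ : V →+ V)
    (h1 : ∀ (c : F) v, τ (c • v) = σ c • τ v) (h2 : ∀ v, τ (τ v) = v) {t : F} (ht : t + σ t = 1)
    {w : F} (hw : w ≠ 0) (hw' : w + σ w = 0) :
    Nat.card V = Nat.card (AddMonoidHom.id V - τ).ker ^ 2 := by
  have h3 : ∀ v, v ∈ (AddMonoidHom.id V - τ).ker ↔ τ v = v := fun v =>
    sub_eq_zero.trans eq_comm
  have h4 : ∀ v, v ∈ (AddMonoidHom.id V - τ).range ↔ τ v = -v := fun v =>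
    ⟨by rintro ⟨u, rfl⟩; simp [h2], fun h => ⟨t • v, by simp [h1, h, ← add_smul, ht]⟩⟩
  have h5 : σ w = -w := by linear_combination hw'
  rw [card_eq_card_range_mul (AddMonoidHom.id V - τ), sq]
  congr 1
  exact Nat.card_congr
    { toFun := fun v => ⟨w • v.1, by rw [h3, h1, (h4 _).1 v.2, h5]; simp⟩
      invFun := fun v => ⟨w⁻¹ • v.1, by rw [h4, h1, (h3 _).1 v.2, map_inv₀, h5]; simp [inv_neg]⟩
      left_inv := fun v => by simp [hw]
      right_inv := fun v => by simp [hw] }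

theorem coeff_zero_mul_of_dual {f : F[X]} (hf : f.Monic) (h0 : f.coeff 0 ≠ 0) (h : dual σ f = f) :
    f.coeff 0 * σ (f.coeff 0) = 1 := by
  have := Wall.coeff_zero_dual (σ := σ) f
  rw [h, hf.leadingCoeff, map_one, mul_one] at this
  exact (congrArg (· * σ (f.coeff 0)) this).trans (inv_mul_cancel₀ (by simpa using h0))

theorem card_selfDual_eq (d : ℕ) {c : F} (hc : c * σ c = 1) :
    Nat.card {f : F[X] // f.Monic ∧ f.natDegree = d ∧ dual σ f = f ∧ f.coeff 0 = c} =
      Nat.card {a : Fin (d + 1) → F // a (Fin.last d) = 1 ∧ ∀ i, a i = c * σ (a i.rev)} := by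
  classical
  have h1 : (σ c)⁻¹ = c := (eq_inv_of_mul_eq_one_left hc).symm
  refine Nat.card_congr
    { toFun := fun f => ⟨toFn (d + 1) f.1, ?_, fun i => ?_⟩
      invFun := fun a => ⟨ofFn (d + 1) a.1, ?_⟩
      left_inv := fun f => Subtype.ext (ofFn_comp_toFn_eq_id_of_natDegree_lt (by rw [f.2.2.1]; omega))
      right_inv := fun a => Subtype.ext (toFn_comp_ofFn_eq_id _ _) }
  · obtain ⟨f, hf, rfl, -⟩ := f
    exact hf.coeff_natDegree
  · obtain ⟨f, hf, rfl, h2, rfl⟩ := f
    have := Wall.coeff_dual (σ := σ) (f := f) (i := i) (Nat.lt_succ_iff.1 i.2)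
    rw [h2, h1] at this
    simpa [toFn] using this
  · have h2 : (ofFn (d + 1) a.1).coeff d = 1 :=
      (ofFn_coeff_eq_val_of_lt _ d.lt_succ_self).trans a.2.1
    have h3 := Nat.lt_succ_iff.1 (ofFn_natDegree_lt (Nat.le_add_left 1 d) a.1)
    have h4 := natDegree_eq_of_le_of_coeff_ne_zero h3 (h2.trans_ne one_ne_zero)
    have h5 : (ofFn (d + 1) a.1).coeff 0 = c := by
      rw [ofFn_coeff_eq_val_of_lt _ d.succ_pos, a.2.2]
      simp [a.2.1]
    refine ⟨monic_of_natDegree_le_of_coeff_eq_one d h3 h2, h4, Polynomial.ext fun i => ?_, h5⟩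
    by_cases hi : i ≤ d
    · rw [Wall.coeff_dual (h4.symm ▸ hi), h5, h1, h4, ofFn_coeff_eq_val_of_lt _ (by omega),
        ofFn_coeff_eq_val_of_lt _ (Nat.lt_succ_of_le hi), a.2.2 ⟨i, _⟩]
      simp [Fin.rev]
    · rw [coeff_eq_zero_of_natDegree_lt, coeff_eq_zero_of_natDegree_lt (by omega)]
      rw [Wall.natDegree_dual (h5.trans_ne (left_ne_zero_of_mul_eq_one hc))]
      omega

theorem card_selfDual_unitary {q : ℕ} [U.UF F q] {d : ℕ} (hd : d ≠ 0) {c : F}
    (hc : c * U.conj F q c = 1) : Nat.card {f : F[X] // f.Monic ∧ f.natDegree = d ∧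
      dual (U.conj F q) f = f ∧ f.coeff 0 = c} = q ^ (d - 1) := by
  have : Finite F := U.UF.finite q
  have hq := U.two_le_q F q
  let τ : (Fin (d + 1) → F) →+ (Fin (d + 1) → F) := AddMonoidHom.mk'
    (fun a i => c * U.conj F q (a i.rev)) fun a b => by ext; simp [mul_add]
  obtain ⟨t, ht⟩ := U.exists_trace_eq_one F q
  obtain ⟨w, hw, hw'⟩ := U.exists_trace_zero F q
  have h1 := card_fixed_sq (σ := U.conj F q) τ (fun x a => by ext; simp [τ, mul_left_comm])
    (fun a => by ext; simp [τ, U.conj_conj, ← mul_assoc, hc]) ht hw hw'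
  have h2 : ∀ a, a ∈ (AddMonoidHom.id _ - τ).ker ↔ ∀ i, a i = c * U.conj F q (a i.rev) := fun a => by
    simp [sub_eq_zero, τ, funext_iff]
  rw [Nat.card_fun, U.UF.card_eq (q := q), Nat.card_eq_fintype_card, Fintype.card_fin, ← pow_mul,
    mul_comm, pow_mul] at h1
  let ψ : (AddMonoidHom.id _ - τ).ker →+ F :=
    (Pi.evalAddMonoidHom (fun _ => F) (Fin.last d)).comp (AddSubgroup.subtype _)
  have h3 : Function.Surjective ψ := fun x => by
    have h0 : Fin.last d ≠ 0 := by simpa using hd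
    refine ⟨⟨Pi.single (Fin.last d) x + Pi.single 0 (c * U.conj F q x), (h2 _).2 fun i => ?_⟩, by
      simp [ψ, h0]⟩
    simp only [Pi.add_apply, Pi.single_apply, Fin.rev_eq_iff, Fin.rev_last, Fin.rev_zero]
    split_ifs with a b <;> simp_all [U.conj_conj, ← mul_assoc]
  have h4 := card_eq_card_range_mul ψ
  rw [AddMonoidHom.range_eq_top.2 h3, AddSubgroup.card_top, U.UF.card_eq (F := F) (q := q),
    ← (Nat.pow_left_injective two_ne_zero h1), ← Nat.card_congr (ψ.fiberEquivKerOfSurjective h3 1),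
    show q ^ (d + 1) = q ^ 2 * q ^ (d - 1) by rw [← pow_add]; congr 1; omega] at h4
  rw [card_selfDual_eq d hc, Nat.eq_of_mul_eq_mul_left (by positivity) h4]
  exact Nat.card_congr
    { toFun := fun a => ⟨⟨a.1, (h2 _).2 a.2.2⟩, a.2.1⟩
      invFun := fun a => ⟨a.1.1, a.2, (h2 _).1 a.1.2⟩
      left_inv := fun _ => rfl
      right_inv := fun _ => rfl }

theorem card_pal (m : ℕ) : Nat.card {f : F[X] // f.Monic ∧ f.natDegree = 2 * m ∧
    dual (RingHom.id F) f = f ∧ f.coeff 0 = 1} = Nat.card F ^ m := by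
  rw [card_selfDual_eq _ (by simp), show Nat.card F ^ m = Nat.card (Fin m → F) by simp [Nat.card_fun]]
  simp only [RingHom.id_apply, one_mul]
  refine Nat.card_congr
    { toFun := fun a j => a.1 ⟨j + 1, by omega⟩
      invFun := fun b => ⟨fun i => (Fin.cons 1 b : Fin (m + 1) → F) ⟨min i (2 * m - i), by omega⟩,
        by simp, fun i => congrArg _ (Fin.ext (by simp only [Fin.val_rev]; omega))⟩
      left_inv := fun a => Subtype.ext (funext fun i => ?_)
      right_inv := fun b => funext fun j => ?_ }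
  · have key : ∀ k : Fin (m + 1), (Fin.cons 1 (fun j : Fin m => a.1 ⟨j + 1, by omega⟩) :
        Fin (m + 1) → F) k = a.1 ⟨k, by omega⟩ := fun k => by
      refine Fin.cases ?_ (fun _ => rfl) k
      exact a.2.1.symm.trans ((a.2.2 _).trans (congrArg _ (Fin.ext (by simp))))
    refine (key ⟨min i (2 * m - i), by omega⟩).trans ?_
    rcases le_total (i : ℕ) (2 * m - i) with h | h
    · exact congrArg _ (Fin.ext (min_eq_left h))
    · exact (congrArg _ (Fin.ext (by simp only [Fin.val_rev]; omega))).trans (a.2.2 i).symm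
  · exact congrArg (Fin.cons 1 b : Fin (m + 1) → F)
      (show ⟨min (j + 1) (2 * m - (j + 1)), by omega⟩ = j.succ from Fin.ext (by simp; omega))

theorem coeff_zero_eq_one_of_dual {f : F[X]} (h : dual (RingHom.id F) f = f)
    (h1 : ¬ X - C 1 ∣ f) : f.coeff 0 = 1 := by
  have := Wall.aeval_dual (σ := RingHom.id F) (mul_one (1 : F)) (mul_one 1) f
  rw [h, Polynomial.map_id, one_pow, mul_one, smul_eq_mul, eq_comm, mul_eq_right₀ (by
    simpa using mt dvd_iff_isRoot.2 h1)] at this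
  simpa using this

theorem even_natDegree_of_dual {f : F[X]} (h0 : f.coeff 0 = 1) (h : dual (RingHom.id F) f = f)
    (h1 : ¬ X - C (-1) ∣ f) : Even f.natDegree := by
  by_contra ho
  obtain ⟨k, hk⟩ := Nat.not_even_iff_odd.1 ho
  refine h1 (dvd_iff_isRoot.2 ?_)
  rw [IsRoot, eval_eq_sum_range]
  refine Finset.sum_involution (fun i _ => f.natDegree - i) (fun i hi => ?_) (fun i _ _ => by omega)
    (fun i _ => Finset.mem_range.2 (by omega)) fun i hi => by have := Finset.mem_range.1 hi; omega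
  have h2 := Nat.lt_succ_iff.1 (Finset.mem_range.1 hi)
  have h3 := Wall.coeff_dual (σ := RingHom.id F) h2
  have h4 : (-1 : F) ^ (f.natDegree - i) * (-1) ^ i = -1 := by
    rw [← pow_add, Nat.sub_add_cancel h2, hk, pow_succ, pow_mul]; simp
  have h5 : (-1 : F) ^ i * (-1) ^ i = 1 := by rw [← mul_pow]; simp
  simp only [h, h0, RingHom.id_apply, inv_one, one_mul] at h3
  rw [← h3]
  linear_combination (f.coeff i * (-1) ^ i) * h4 - (f.coeff i * (-1) ^ (f.natDegree - i)) * h5

theorem even_rootMultiplicity_iff {f : F[X]} (h0 : f.coeff 0 ≠ 0)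
    (h : dual (RingHom.id F) f = f) : (∀ c : F, c * c = 1 → Even (f.rootMultiplicity c)) ↔
      Even f.natDegree ∧ f.coeff 0 = 1 := by
  have key : ∀ {f : F[X]} (c : F), c * c = 1 → f.coeff 0 ≠ 0 → dual (RingHom.id F) f = f →
      ∃ g, f = (X - C c) ^ f.rootMultiplicity c * g ∧ ¬ X - C c ∣ g ∧ g.coeff 0 ≠ 0 ∧
        dual (RingHom.id F) g = g := fun {f} c hc h0 h => by
    obtain ⟨g, h1, h2⟩ := exists_eq_pow_rootMultiplicity_mul_and_not_dvd f (by rintro rfl; simp at h0) c
    refine ⟨g, h1, h2, Wall.coeff_zero_ne_of_dvd (Dvd.intro_left _ h1.symm) h0, ?_⟩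
    generalize f.rootMultiplicity c = k at h1
    rw [h1, Wall.dual_mul, Wall.dual_pow, Wall.dual_X_sub_C_of_norm hc] at h
    exact mul_left_cancel₀ (pow_ne_zero _ (X_sub_C_ne_zero c)) h
  obtain ⟨g, g1, g2, g3, g4⟩ := key 1 (by simp) h0 h
  obtain ⟨k, k1, k2, k3, k4⟩ := key (-1) (by simp) g3 g4
  have g0 : g ≠ 0 := by rintro rfl; simp at g3
  have k0 : k ≠ 0 := by rintro rfl; simp at k3
  have h1 := even_natDegree_of_dual (coeff_zero_eq_one_of_dual k4 fun e =>
    g2 (k1 ▸ e.mul_left _)) k4 k2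
  have h2 : f.coeff 0 = (-1) ^ f.rootMultiplicity 1 := by
    conv_lhs => rw [g1, mul_coeff_zero, coeff_zero_eq_one_of_dual g4 g2]
    simp [coeff_zero_eq_eval_zero]
  have h3 : f.natDegree = f.rootMultiplicity 1 + (g.rootMultiplicity (-1) + k.natDegree) := by
    conv_lhs => rw [g1, natDegree_mul (pow_ne_zero _ (X_sub_C_ne_zero _)) g0, k1,
      natDegree_mul (pow_ne_zero _ (X_sub_C_ne_zero _)) k0]
    simp only [natDegree_pow, natDegree_X_sub_C, mul_one]
  have h4 : ∀ c : F, c * c = 1 ↔ c = 1 ∨ c = -1 := fun c => mul_self_eq_one_iff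
  simp only [h4, forall_eq_or_imp, forall_eq]
  rw [h2, h3]
  by_cases h5 : (-1 : F) = 1
  · rw [h5, rootMultiplicity_eq_zero (mt dvd_iff_isRoot.2 g2)]
    simp [Nat.even_add, h1]
  · have h6 : f.rootMultiplicity (-1) = g.rootMultiplicity (-1) := by
      conv_lhs => rw [g1, rootMultiplicity_mul (mul_ne_zero (pow_ne_zero _ (X_sub_C_ne_zero _)) g0),
        rootMultiplicity_eq_zero (by simp [sub_eq_zero, h5]), zero_add]
    rw [h6, neg_one_pow_eq_one_iff_even h5, Nat.even_add, Nat.even_add]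
    tauto

/-! ### Multisets of irreducible polynomials -/

section Irr

variable {s : Multiset F[X]} (hs : ∀ b ∈ s, KSG.IsPP b) (hi : ∀ b ∈ s, Irreducible b)
include hs hi

theorem map_dual_eq_iff (hσ : ∀ a, σ (σ a) = a) (hX : ∀ b ∈ s, ¬ X ∣ b) :
    s.map (dual σ) = s ↔ dual σ s.prod = s.prod := by
  rw [Wall.dual_multiset_prod]
  refine ⟨congrArg _, KSG.multiset_eq_of_prod_eq (fun b hb => ?_) fun b hb => ⟨hi b hb, (hs b hb).monic⟩⟩
  obtain ⟨b, hb', rfl⟩ := Multiset.mem_map.1 hb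
  exact ⟨Wall.irreducible_dual hσ (hi b hb') (mt X_dvd_iff.2 (hX b hb')),
    Wall.monic_dual (mt X_dvd_iff.2 (hX b hb'))⟩

theorem lev_one : lev s 1 = s.prod := by
  have := map_pow_levM hs 1
  rw [Multiset.filter_eq_self.2 fun b hb => by
    simpa using expo_pow (hi b hb) (hs b hb).monic one_ne_zero] at this
  simpa [lev] using congrArg Multiset.prod this

open Classical in
theorem count_eq_rootMultiplicity (c : F) : s.count (X - C c) = s.prod.rootMultiplicity c := by
  rw [← lev_one hs hi, rootMultiplicity_lev hs c one_ne_zero, pow_one]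

open Classical in
theorem count_pow_eq_zero (c : F) {e : ℕ} (he : e ≠ 1) : s.count ((X - C c) ^ e) = 0 :=
  Multiset.count_eq_zero_of_notMem fun h => by
    rcases eq_or_ne e 0 with rfl | h0
    · simpa using (hs _ h).natDegree_pos
    · exact not_irreducible_pow he (hi _ h)

omit hi in
theorem coeff_zero_prod_ne (hX : ∀ b ∈ s, ¬ X ∣ b) : s.prod.coeff 0 ≠ 0 ∧
    s.prod.natDegree = (s.map natDegree).sum :=
  ⟨fun h => by
    obtain ⟨b, hb, h1⟩ := prime_X.exists_mem_multiset_dvd (X_dvd_iff.2 h)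
    exact hX b hb h1, natDegree_multiset_prod_of_monic _ fun b hb => (hs b hb).monic⟩

end Irr

end Cfsg.Agent.Class.FG
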