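import Cfsg.Agent.Class.FG.Count

/-!
# Numbers of conjugacy classes: normal subgroups and central quotients
-/

set_option autoImplicit false

namespace Cfsg.Agent.Class.FG

variable {G N A : Type*} [Group G] [Group N] [CommGroup A]

theorem mk_out (C : ConjClasses G) : ConjClasses.mk (Quotient.out C) = C := Quotient.out_eq C

theorem isConj_out (g : G) : IsConj (Quotient.out (ConjClasses.mk g)) g :=
  ConjClasses.mk_eq_mk_iff_isConj.1 (mk_out _)

theorem eq_of_isConj_out {C D : ConjClasses G} (h : IsConj (Quotient.out C) (Quotient.out D)) :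
    C = D :=
  (mk_out C).symm.trans ((ConjClasses.mk_eq_mk_iff_isConj.2 h).trans (mk_out D))

/-- The number of `N`-classes in a `G`-class. -/
theorem card_le_index [Finite A] (ι : N →* G) (hι : Function.Injective ι) (φ : G →* A)
    (h : ι.range = φ.ker) (g : N) (M : Subgroup A) (hM : ∀ y ∈ M, ∃ c, Commute c (ι g) ∧ φ c = y)
    (s : Finset (ConjClasses N)) (hs : ∀ C ∈ s, IsConj (ι g) (ι (Quotient.out C))) :
    s.card ≤ M.index := by
  choose x hx using fun C : s => isConj_iff.1 (hs C C.2)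
  rw [← Fintype.card_coe, ← Nat.card_eq_fintype_card]
  refine Nat.card_le_card_of_injective (fun C => (φ (x C) : A ⧸ M)) fun C D e => ?_
  obtain ⟨c, h1, h2⟩ := hM _ (QuotientGroup.eq.1 e)
  obtain ⟨n, hn⟩ : x D * c⁻¹ * (x C)⁻¹ ∈ ι.range := by
    rw [h, MonoidHom.mem_ker, map_mul, map_mul, map_inv, map_inv, h2]
    simp
  refine Subtype.ext (eq_of_isConj_out (isConj_iff.2 ⟨n, hι ?_⟩))
  rw [map_mul, map_mul, map_inv, hn, ← hx, ← hx]
  calc _ = x D * (c⁻¹ * ι g * c) * (x D)⁻¹ := by group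
    _ = _ := by rw [mul_assoc c⁻¹, ← h1.eq, inv_mul_cancel_left]

theorem card_le_index_powSub [Finite A] (ι : N →* G) (hι : Function.Injective ι) (φ : G →* A)
    (h : ι.range = φ.ker) (g : N) {n : ℕ} (d : Fin n → ℕ)
    (hd : ∀ i, d i ≠ 0 → ∀ u : A, ∃ c, Commute c (ι g) ∧ φ c = u ^ ((i : ℕ) + 1))
    (s : Finset (ConjClasses N)) (hs : ∀ C ∈ s, IsConj (ι g) (ι (Quotient.out C))) :
    s.card ≤ (powSub A d).index := by
  have : powSub A d ≤ (Subgroup.centralizer {ι g}).map φ := iSup_le (by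
    rintro ⟨i, hi⟩ _ ⟨u, rfl⟩
    obtain ⟨c, h1, h2⟩ := hd i hi u
    exact ⟨c, Subgroup.mem_centralizer_singleton_iff.2 h1, h2⟩)
  refine card_le_index ι hι φ h g _ (fun y hy => ?_) s hs
  obtain ⟨c, hc, rfl⟩ := this hy
  exact ⟨c, Subgroup.mem_centralizer_singleton_iff.1 hc, rfl⟩

/-- Burnside's lemma for the action of a central subgroup on the classes. -/
theorem card_mul_card_conjClasses_quotient [Finite G] (Z : Subgroup G) [Z.Normal] [Fintype Z]
    (hZ : Z ≤ Subgroup.center G) : Nat.card Z * Nat.card (ConjClasses (G ⧸ Z)) =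
      ∑ z : Z, Nat.card {C : ConjClasses G // IsConj (z * Quotient.out C) (Quotient.out C)} := by
  classical
  have hc : ∀ (z : Z) (a b : G), IsConj a b → IsConj (z * a) (z * b) := fun z a b h => by
    obtain ⟨c, rfl⟩ := isConj_iff.1 h
    exact isConj_iff.2 ⟨c, by rw [← mul_assoc, Subgroup.mem_center_iff.1 (hZ z.2) c]; group⟩
  let _ : MulAction Z (ConjClasses G) :=
    { smul := fun z => Quotient.map' (fun a => z * a) (hc z)
      one_smul := fun C => Quotient.inductionOn' C fun a => congrArg ConjClasses.mk (one_mul a)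
      mul_smul := fun y z C => Quotient.inductionOn' C fun a =>
        congrArg ConjClasses.mk (mul_assoc (y : G) z a) }
  have hs : ∀ (z : Z) (a : G), z • ConjClasses.mk a = ConjClasses.mk (z * a) := fun _ _ => rfl
  have := Fintype.ofFinite (Quotient (MulAction.orbitRel Z (ConjClasses G)))
  have := fun z : Z => Fintype.ofFinite (MulAction.fixedBy (ConjClasses G) z)
  have h1 := MulAction.sum_card_fixedBy_eq_card_orbits_mul_card_group Z (ConjClasses G)
  simp only [← Nat.card_eq_fintype_card] at h1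
  rw [mul_comm, Finset.sum_congr rfl fun z _ => Nat.card_congr (Equiv.subtypeEquivRight
    (q := (· ∈ MulAction.fixedBy (ConjClasses G) z)) fun C => ?_), h1]
  · congr 1
    symm
    refine Nat.card_congr (Equiv.ofBijective (Quotient.lift (ConjClasses.map (QuotientGroup.mk' Z))
      ?_) ⟨fun C D => ?_, fun C => ?_⟩)
    · rintro _ C ⟨z, rfl⟩
      obtain ⟨a, rfl⟩ := ConjClasses.mk_surjective C
      exact congrArg ConjClasses.mk (show ((z * a : G) : G ⧸ Z) = a by
        rw [QuotientGroup.mk_mul, (QuotientGroup.eq_one_iff _).2 z.2, one_mul])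
    · refine Quotient.inductionOn₂' C D fun C D e => Quotient.sound' ?_
      obtain ⟨a, rfl⟩ := ConjClasses.mk_surjective C
      obtain ⟨b, rfl⟩ := ConjClasses.mk_surjective D
      obtain ⟨c, hc⟩ := isConj_iff.1 (ConjClasses.mk_eq_mk_iff_isConj.1 e)
      obtain ⟨c, rfl⟩ := QuotientGroup.mk_surjective c
      have h2 := QuotientGroup.eq.1 (show (b : G ⧸ Z) = (c * a * c⁻¹ : G) from hc.symm)
      refine ⟨⟨_, h2⟩, (hs _ _).trans
        (ConjClasses.mk_eq_mk_iff_isConj.2 (IsConj.symm (isConj_iff.2 ⟨c, ?_⟩)))⟩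
      rw [← Subgroup.mem_center_iff.1 (hZ h2) b, mul_inv_cancel_left]
    · obtain ⟨a, rfl⟩ := ConjClasses.mk_surjective C
      obtain ⟨a, rfl⟩ := QuotientGroup.mk_surjective a
      exact ⟨Quotient.mk'' (ConjClasses.mk a), rfl⟩
  · rw [MulAction.mem_fixedBy, ← ConjClasses.mk_eq_mk_iff_isConj, ← hs, mk_out]

end Cfsg.Agent.Class.FG
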