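import Mathlib

/-!
# Counting sequences with weighted degrees

`W a N n = ∑ ∏ a i (d i)` over the vectors `d : Fin N → ℕ` with `∑ (i + 1) * d i = n`.
-/

set_option autoImplicit false

namespace Cfsg.Agent.Class.FG

open Finset

/-- Degree vectors of weight `n`. -/
def Ty (N n : ℕ) : Finset (Fin N → ℕ) :=
  (Fintype.piFinset fun _ => range (n + 1)).filter fun d => ∑ i : Fin N, ((i : ℕ) + 1) * d i = n

theorem mem_Ty {N n : ℕ} {d : Fin N → ℕ} : d ∈ Ty N n ↔ ∑ i : Fin N, ((i : ℕ) + 1) * d i = n := by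
  rw [Ty, mem_filter, and_iff_right_iff_imp]
  intro h
  refine Fintype.mem_piFinset.2 fun i => mem_range.2 (Nat.lt_succ_of_le ?_)
  exact h ▸ (Nat.le_mul_of_pos_left _ (Nat.succ_pos _)).trans
    (single_le_sum (f := fun i : Fin N => ((i : ℕ) + 1) * d i) (fun _ _ => Nat.zero_le _) (mem_univ i))

/-- The weighted number of degree vectors. -/
def W (a : ℕ → ℕ → ℕ) : ℕ → ℕ → ℕ
  | 0, n => if n = 0 then 1 else 0
  | N + 1, n => ∑ e ∈ range (n / (N + 1) + 1), a (N + 1) e * W a N (n - (N + 1) * e)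

theorem sum_Ty (a : ℕ → ℕ → ℕ) (N n : ℕ) :
    ∑ d ∈ Ty N n, ∏ i : Fin N, a ((i : ℕ) + 1) (d i) = W a N n := by
  induction N generalizing n with
  | zero =>
    rw [W]
    split_ifs with h
    · rw [sum_eq_single_of_mem default (by simp [mem_Ty, h]) fun d _ hd =>
        absurd (Subsingleton.elim _ _) hd]
      simp
    · exact sum_eq_zero fun d hd => absurd (mem_Ty.1 hd).symm (by simpa using h)
  | succ N ih =>
    simp only [W, ← ih, mul_sum]
    rw [sum_sigma']
    refine sum_bij' (fun d _ => ⟨d (Fin.last N), Fin.init d⟩) (fun x _ => Fin.snoc x.2 x.1)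
      (fun d hd => ?_) (fun x hx => ?_) (fun d _ => Fin.snoc_init_self d) (fun x _ => by simp)
      fun d _ => ?_
    · rw [mem_Ty, Fin.sum_univ_castSucc] at hd
      simp only [mem_sigma, mem_range, mem_Ty, Nat.lt_succ_iff, Nat.le_div_iff_mul_le N.succ_pos]
      simp only [Fin.val_castSucc, Fin.val_last] at hd
      exact ⟨by rw [mul_comm]; exact hd ▸ Nat.le_add_left _ _, Nat.eq_sub_of_add_eq hd⟩
    · simp only [mem_sigma, mem_range, mem_Ty, Nat.lt_succ_iff,
        Nat.le_div_iff_mul_le N.succ_pos] at hx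
      rw [mem_Ty, Fin.sum_univ_castSucc]
      simp only [Fin.snoc_castSucc, Fin.snoc_last, Fin.val_castSucc, Fin.val_last, hx.2]
      exact Nat.sub_add_cancel (mul_comm x.1 _ ▸ hx.1)
    · rw [Fin.prod_univ_castSucc, mul_comm]
      rfl

theorem W_mono {a b : ℕ → ℕ → ℕ} (h : ∀ i e, a i e ≤ b i e) (N n : ℕ) : W a N n ≤ W b N n := by
  rw [← sum_Ty, ← sum_Ty]
  exact sum_le_sum fun d _ => prod_le_prod' fun i _ => h _ _

theorem W_succ_of_lt {a : ℕ → ℕ → ℕ} (h : ∀ i, a i 0 = 1) {N n : ℕ} (hn : n ≤ N) :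
    W a (N + 1) n = W a N n := by
  simp [W, Nat.div_eq_of_lt (Nat.lt_succ_of_le hn), h]

theorem W_le_succ {a : ℕ → ℕ → ℕ} (h : ∀ i, a i 0 = 1) (N n : ℕ) : W a N n ≤ W a (N + 1) n := by
  rw [W, sum_range_succ']
  simp [h]

theorem W_le_self {a : ℕ → ℕ → ℕ} (h : ∀ i, a i 0 = 1) (N n : ℕ) : W a N n ≤ W a n n := by
  rcases le_total N n with h1 | h1
  · exact monotone_nat_of_le_succ (f := fun N => W a N n) (fun N => W_le_succ h N n) h1
  · induction N, h1 using Nat.le_induction with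
    | base => rfl
    | succ N h1 ih => rwa [W_succ_of_lt h h1]

/-- Vectors supported on the multiples of `h`. -/
theorem W_dvd (a : ℕ → ℕ) {h : ℕ} (hh : h ≠ 0) (N n : ℕ) :
    W (fun i e => if h ∣ i then a e else if e = 0 then 1 else 0) N (h * n) =
      W (fun _ => a) (N / h) n := by
  induction N generalizing n with
  | zero => simp [W, hh]
  | succ N ih =>
    rw [W]
    by_cases hd : h ∣ N + 1
    · obtain ⟨k, hk⟩ := hd
      obtain _ | k := k
      · omega
      have e : N / h = k := by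
        rw [Nat.div_eq_iff (Nat.pos_of_ne_zero hh)]
        have := Nat.pos_of_ne_zero hh
        rw [mul_add, mul_comm] at hk
        omega
      rw [hk, Nat.mul_div_cancel_left _ (Nat.pos_of_ne_zero hh), W,
        Nat.mul_div_mul_left _ _ (Nat.pos_of_ne_zero hh)]
      refine sum_congr rfl fun j _ => ?_
      rw [if_pos (dvd_mul_right _ _), mul_assoc, ← Nat.mul_sub, ih, e]
    · rw [Nat.succ_div_of_not_dvd hd, sum_range_succ', ← ih]
      simp [hd]

/-- Bounding `W` by a product of geometric sums. -/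
theorem W_succ_le {a : ℕ → ℕ → ℕ} {N : ℕ} {q β γ : ℝ} (hq : 0 < q) (hβ : 0 ≤ β)
    (h1 : ∀ n, (W a N n : ℝ) ≤ β * q ^ n)
    (h2 : ∀ K, ∑ e ∈ range K, (a (N + 1) e : ℝ) * (q⁻¹ ^ (N + 1)) ^ e ≤ γ) (n : ℕ) :
    (W a (N + 1) n : ℝ) ≤ β * γ * q ^ n := by
  rw [W, Nat.cast_sum, mul_right_comm]
  refine le_trans (sum_le_sum fun e he => ?_) ((mul_sum _ _ _).symm.le.trans
    (mul_le_mul_of_nonneg_left (h2 (n / (N + 1) + 1)) (by positivity)))
  have h3 : (N + 1) * e ≤ n := by
    rw [mem_range, Nat.lt_succ_iff, Nat.le_div_iff_mul_le N.succ_pos] at he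
    rwa [mul_comm]
  rw [Nat.cast_mul, mul_left_comm]
  refine mul_le_mul_of_nonneg_left ((h1 _).trans_eq ?_) (Nat.cast_nonneg _)
  rw [pow_sub₀ _ hq.ne' h3, ← pow_mul, inv_pow, mul_assoc]

/-- The level weights for `GL` (`α = q - 1`) and `GU` (`α = q + 1`). -/
def aL (α q e : ℕ) : ℕ := if e = 0 then 1 else α * q ^ (e - 1)

/-- The number of classes of `GL_n` (`α = q - 1`) or `GU_n` (`α = q + 1`). -/
def K (α q n : ℕ) : ℕ := W (fun _ => aL α q) n n

theorem W_le_K (α q N n : ℕ) : W (fun _ => aL α q) N n ≤ K α q n := W_le_self (fun _ => rfl) N n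

theorem W_aL_le (α N n : ℕ) :
    W (fun _ => aL α (α + 1)) (N + 1) n + (if N + 1 ≤ n then (α + 1) ^ (n - (N + 1)) else 0) ≤
      (α + 1) ^ n := by
  induction N generalizing n with
  | zero =>
    obtain _ | n := n
    · simp [W, aL]
    · rw [W, sum_eq_single_of_mem (n + 1) (by simp) fun e he hne => by
        simp only [zero_add, Nat.div_one, mem_range] at he
        simp [W, show n + 1 - e ≠ 0 by omega]]
      simp [W, aL, pow_succ', add_mul]
  | succ N ih =>
    have key : ∀ r, ∑ e ∈ range (r / (N + 2) + 1), (α + 1) ^ e *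
        W (fun _ => aL α (α + 1)) (N + 1) (r - (N + 2) * e) ≤ (α + 1) ^ r := fun r => by
      induction r using Nat.strong_induction_on with
      | h r ihr =>
      have h1 := ih r
      by_cases hr : N + 2 ≤ r
      · obtain ⟨r, rfl⟩ := Nat.exists_eq_add_of_le' hr
        rw [Nat.add_div_right _ (by omega), sum_range_succ']
        have h2 := Nat.mul_le_mul_left (α + 1) (ihr r (by omega))
        rw [if_pos (by omega), show r + (N + 2) - (N + 1) = r + 1 by omega] at h1
        rw [mul_sum, ← pow_succ'] at h2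
        simp only [pow_zero, one_mul, mul_zero, Nat.sub_zero, mul_add_one (N + 2), pow_succ',
          mul_assoc, Nat.add_sub_add_right] at h1 h2 ⊢
        omega
      · rw [Nat.div_eq_of_lt (not_le.1 hr)]
        simpa using le_trans (Nat.le_add_right _ _) h1
    have h1 := ih n
    rw [W]
    by_cases hr : N + 2 ≤ n
    · obtain ⟨r, rfl⟩ := Nat.exists_eq_add_of_le' hr
      rw [Nat.add_div_right _ (by omega), sum_range_succ', if_pos hr]
      have h2 := Nat.mul_le_mul_left α (key r)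
      rw [if_pos (by omega), show r + (N + 2) - (N + 1) = r + 1 by omega] at h1
      rw [mul_sum] at h2
      simp only [aL, if_true, one_mul, mul_zero, Nat.sub_zero, mul_add_one (N + 2), pow_succ',
        mul_assoc, Nat.add_sub_add_right, Nat.add_sub_cancel, Nat.succ_ne_zero, if_false,
        add_one_mul α] at h1 h2 ⊢
      omega
    · rw [Nat.div_eq_of_lt (not_le.1 hr), if_neg hr]
      simpa [aL] using le_trans (Nat.le_add_right _ _) h1

theorem K_le_pow (α n : ℕ) : K α (α + 1) n ≤ (α + 1) ^ n :=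
  (W_le_succ (fun _ => rfl) n n).trans (le_trans (Nat.le_add_right _ _) (W_aL_le α n n))

theorem K_le_pow' {α q : ℕ} (h : q ≤ α + 1) (n : ℕ) : K α q n ≤ (α + 1) ^ n :=
  le_trans (W_mono (fun _ e => by
    unfold aL
    split_ifs
    · rfl
    · exact Nat.mul_le_mul_left _ (Nat.pow_le_pow_left h _)) n n) (K_le_pow α n)

theorem K_one (α q : ℕ) : K α q 1 = α := by simp [K, W, aL, sum_range_succ]

theorem K_two (α q : ℕ) : K α q 2 = α * q + α := by simp [K, W, aL, sum_range_succ]

theorem K_three (α q : ℕ) : K α q 3 = α * q ^ 2 + α * α + α := by simp [K, W, aL, sum_range_succ]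

theorem K_four (α q : ℕ) : K α q 4 = α * q ^ 3 + α * (α * q) + α * q + α * α + α := by
  simp [K, W, aL, sum_range_succ]

section Seq

variable {T X : Type*} {N n : ℕ}

/-- Counting sequences through their degree vectors. -/
theorem card_le_W (deg : T → ℕ) (Fb : ℕ → ℕ → Finset T) (s : Finset X) (L : X → Fin N → T)
    (hL : Set.InjOn L s) (h1 : ∀ x ∈ s, ∑ i : Fin N, ((i : ℕ) + 1) * deg (L x i) = n)
    (h2 : ∀ x ∈ s, ∀ i : Fin N, L x i ∈ Fb (i + 1) (deg (L x i))) :
    s.card ≤ W (fun i e => (Fb i e).card) N n := by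
  classical
  rw [← sum_Ty, card_eq_sum_card_fiberwise (f := fun x i => deg (L x i)) (t := Ty N n)
    fun x hx => mem_Ty.2 (h1 x hx)]
  refine sum_le_sum fun d _ => ?_
  rw [← Fintype.card_piFinset fun i : Fin N => Fb (i + 1) (d i)]
  refine card_le_card_of_injOn L (fun x hx => ?_) (hL.mono (coe_subset.2 (filter_subset _ _)))
  obtain ⟨hx', rfl⟩ := mem_filter.1 hx
  exact Fintype.mem_piFinset.2 (h2 x hx')

variable {A : Type*} [CommGroup A] [Finite A]

/-- The subgroup generated by the `(i + 1)`-th powers for `i` in the support of `d`. -/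
def powSub (A : Type*) [CommGroup A] (d : Fin N → ℕ) : Subgroup A :=
  ⨆ i : {i // d i ≠ 0}, (powMonoidHom ((i : ℕ) + 1) : A →* A).range

theorem card_fiber_mul_le [DecidableEq A] [Fintype A] (d : Fin N → ℕ) (z : A) :
    ((Fintype.piFinset fun i => if d i = 0 then {1} else univ).filter
      fun u : Fin N → A => ∏ i : Fin N, u i ^ ((i : ℕ) + 1) = z).card * Fintype.card A ≤
      (powSub A d).index * ∏ i, if d i = 0 then 1 else Fintype.card A := by
  set S := Fintype.piFinset fun i => if d i = 0 then ({1} : Finset A) else univ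
  have hS : S.card = ∏ i, if d i = 0 then 1 else Fintype.card A := by
    rw [Fintype.card_piFinset]
    exact prod_congr rfl fun i _ => by split_ifs <;> simp
  have hm : ∀ u, u ∈ S ↔ ∀ i, d i = 0 → u i = 1 := fun u => by
    rw [Fintype.mem_piFinset]
    exact forall_congr' fun i => by split_ifs with h <;> simp [h]
  have key : ∀ y ∈ powSub A d, ∃ v ∈ S, ∏ i : Fin N, v i ^ ((i : ℕ) + 1) = y := fun y hy => by
    refine Subgroup.iSup_induction _ (C := fun y => ∃ v ∈ S, ∏ i : Fin N, v i ^ ((i : ℕ) + 1) = y) hy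
      ?_ ⟨1, (hm _).2 fun _ _ => rfl, by simp⟩ ?_
    · rintro i _ ⟨u, rfl⟩
      refine ⟨Pi.mulSingle i.1 u, (hm _).2 fun j hj => Pi.mulSingle_eq_of_ne (by
        rintro rfl; exact i.2 hj) _, ?_⟩
      rw [prod_eq_single i.1 (fun j _ hj => by simp [Pi.mulSingle_eq_of_ne hj]) (by simp)]
      simp
    · rintro _ _ ⟨u, hu, rfl⟩ ⟨v, hv, rfl⟩
      exact ⟨u * v, (hm _).2 fun i hi => by simp [(hm _).1 hu i hi, (hm _).1 hv i hi], by
        simp [mul_pow, prod_mul_distrib]⟩
  choose v hv1 hv2 using fun y : powSub A d => key y y.2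
  have := Fintype.ofFinite (powSub A d)
  rw [← hS, ← Nat.card_eq_fintype_card, ← (powSub A d).card_mul_index, ← mul_assoc, mul_comm]
  refine Nat.mul_le_mul_left _ ?_
  rw [Nat.card_eq_fintype_card, ← card_univ, ← card_product]
  refine card_le_card_of_injOn (fun x => x.1 * v x.2) (fun x hx => ?_) fun x hx y hy e => ?_
  · have := (hm _).1 (mem_filter.1 (mem_product.1 hx).1).1
    exact (hm _).2 fun i hi => by simp [this i hi, (hm _).1 (hv1 x.2) i hi]
  · have h1 := congrArg (fun u : Fin N → A => ∏ i : Fin N, u i ^ ((i : ℕ) + 1)) e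
    simp only [Pi.mul_apply, mul_pow, prod_mul_distrib, hv2, (mem_filter.1 (mem_product.1 hx).1).2,
      (mem_filter.1 (mem_product.1 hy).1).2, mul_right_inj] at h1
    have h2 : x.2 = y.2 := Subtype.ext h1
    exact Prod.ext (by simpa [h2] using e) h2

omit [Finite A] in
theorem index_powSub_dvd [IsCyclic A] {d : Fin N → ℕ} {i : Fin N} (hi : d i ≠ 0) :
    (powSub A d).index ∣ (i : ℕ) + 1 := by
  have : IsCyclic (A ⧸ powSub A d) := isCyclic_of_surjective _ (QuotientGroup.mk'_surjective _)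
  rw [Subgroup.index, ← IsCyclic.exponent_eq_card]
  refine Monoid.exponent_dvd_of_forall_pow_eq_one fun x => ?_
  obtain ⟨x, rfl⟩ := QuotientGroup.mk_surjective x
  rw [← QuotientGroup.mk_pow, QuotientGroup.eq_one_iff]
  exact Subgroup.mem_iSup_of_mem ⟨i, hi⟩ ⟨x, rfl⟩

/-- The bound for the number of classes of `SL_n` or `SU_n`, multiplied by `α`. -/
def S (α q n : ℕ) : ℕ := K α q n + ∑ h ∈ (n.gcd α).divisors.erase 1, (h ^ 2 - 1) * K α q (n / h)

theorem sum_sq_le_S {α q : ℕ} (hα : α ≠ 0) (h : (Fin N → ℕ) → ℕ) (h1 : ∀ d, h d ∣ α)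
    (h2 : ∀ d (i : Fin N), d i ≠ 0 → h d ∣ (i : ℕ) + 1) :
    ∑ d ∈ Ty N n, h d ^ 2 * ∏ i, aL α q (d i) ≤ S α q n := by
  have key : ∀ d ∈ Ty N n, h d ^ 2 * ∏ i, aL α q (d i) ≤ ∏ i, aL α q (d i) +
      ∑ k ∈ (n.gcd α).divisors.erase 1, (k ^ 2 - 1) * ∏ i : Fin N,
        if k ∣ (i : ℕ) + 1 then aL α q (d i) else if d i = 0 then 1 else 0 := fun d hd => by
    by_cases e : h d = 1
    · simp [e]
    have h3 : h d ∈ (n.gcd α).divisors.erase 1 := by
      refine mem_erase.2 ⟨e, Nat.mem_divisors.2 ⟨Nat.dvd_gcd ?_ (h1 d), Nat.gcd_ne_zero_right hα⟩⟩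
      rw [← mem_Ty.1 hd]
      refine dvd_sum fun i _ => ?_
      by_cases hi : d i = 0
      · simp [hi]
      · exact (h2 d i hi).mul_right _
    refine le_trans ?_ (Nat.add_le_add_left (single_le_sum (fun _ _ => Nat.zero_le _) h3) _)
    rw [show (∏ i : Fin N, if h d ∣ (i : ℕ) + 1 then aL α q (d i) else if d i = 0 then 1 else 0) =
      ∏ i, aL α q (d i) from prod_congr rfl fun i _ => ?_, ← one_add_mul]
    · exact Nat.mul_le_mul_right _ (by omega)
    · by_cases hi : d i = 0
      · simp [hi, aL]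
      · rw [if_pos (h2 d i hi)]
  refine (sum_le_sum key).trans ?_
  rw [sum_add_distrib, sum_comm]
  refine Nat.add_le_add ((sum_Ty (fun _ => aL α q) N n).le.trans (W_le_K ..)) (sum_le_sum fun k hk => ?_)
  rw [← mul_sum]
  refine Nat.mul_le_mul_left _ ((sum_Ty (fun i e => if k ∣ i then aL α q e else if e = 0 then 1
    else 0) N n).le.trans ?_)
  have h3 := Nat.mem_divisors.1 (mem_erase.1 hk).2
  obtain ⟨m, rfl⟩ := h3.1.trans (Nat.gcd_dvd_left _ _)
  have h4 : k ≠ 0 := ne_zero_of_dvd_ne_zero h3.2 h3.1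
  rw [W_dvd _ h4, Nat.mul_div_cancel_left _ (Nat.pos_of_ne_zero h4)]
  exact W_le_K ..

/-- The main counting lemma for special groups. -/
theorem card_mul_le_S [IsCyclic A] [DecidableEq (Fin N → T)] (deg : T → ℕ) (c : T → A) {q : ℕ}
    (Fb : ℕ → A → Finset T) (hFb : ∀ e z, (Fb e z).card ≤ q ^ (e - 1)) (s : Finset X)
    (L : X → Fin N → T) {z : A} (h1 : ∀ x ∈ s, ∑ i : Fin N, ((i : ℕ) + 1) * deg (L x i) = n)
    (h2 : ∀ x ∈ s, ∀ i, L x i ∈ Fb (deg (L x i)) (c (L x i)))
    (h3 : ∀ x ∈ s, ∀ i, deg (L x i) = 0 → c (L x i) = 1)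
    (h4 : ∀ x ∈ s, ∏ i : Fin N, c (L x i) ^ ((i : ℕ) + 1) = z)
    (h5 : ∀ x ∈ s, (s.filter fun y => L y = L x).card ≤ (powSub A fun i => deg (L x i)).index) :
    s.card * Nat.card A ≤ S (Nat.card A) q n := by
  classical
  have := Fintype.ofFinite A
  refine le_trans ?_ (sum_sq_le_S Nat.card_pos.ne' (fun d : Fin N → ℕ => (powSub A d).index)
    (fun d => Subgroup.index_dvd_card _) fun d i => index_powSub_dvd)
  rw [card_eq_sum_card_fiberwise (f := fun x i => deg (L x i)) (t := Ty N n)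
    fun x hx => mem_Ty.2 (h1 x hx), sum_mul]
  refine sum_le_sum fun d _ => ?_
  have k1 : (s.filter fun x => (fun i => deg (L x i)) = d).card ≤ (powSub A d).index *
      ((s.filter fun x => (fun i => deg (L x i)) = d).image L).card := by
    refine card_le_mul_card_image _ _ fun f hf => ?_
    obtain ⟨x, hx', rfl⟩ := mem_image.1 hf
    obtain ⟨hx, rfl⟩ := mem_filter.1 hx'
    exact (card_le_card (filter_subset_filter _ (filter_subset _ _))).trans (h5 x hx)
  have k2 := card_fiber_mul_le d z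
  have k3 := card_le_card (s := (s.filter fun x => (fun i => deg (L x i)) = d).image L)
    (t := ((Fintype.piFinset fun i => if d i = 0 then {1} else univ).filter
      fun u : Fin N → A => ∏ i : Fin N, u i ^ ((i : ℕ) + 1) = z).biUnion
        fun u => Fintype.piFinset fun i => Fb (d i) (u i)) fun f hf => by
    obtain ⟨x, hx', rfl⟩ := mem_image.1 hf
    obtain ⟨hx, rfl⟩ := mem_filter.1 hx'
    refine mem_biUnion.2 ⟨fun i => c (L x i), mem_filter.2 ⟨Fintype.mem_piFinset.2 fun i => ?_,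
      h4 x hx⟩, Fintype.mem_piFinset.2 (h2 x hx)⟩
    split_ifs with h
    · exact mem_singleton.2 (h3 x hx i h)
    · exact mem_univ _
  have k4 := k3.trans (card_biUnion_le_card_mul _ _ (∏ i, q ^ (d i - 1)) fun u _ => by
    rw [Fintype.card_piFinset]
    exact prod_le_prod' fun i _ => hFb _ _)
  have k5 : ∏ i, aL (Fintype.card A) q (d i) =
      (∏ i, if d i = 0 then 1 else Fintype.card A) * ∏ i, q ^ (d i - 1) := by
    rw [← prod_mul_distrib]
    exact prod_congr rfl fun i _ => by unfold aL; split_ifs with h <;> simp [h]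
  rw [Nat.card_eq_fintype_card, k5]
  calc _ ≤ (powSub A d).index * (_ * ∏ i, q ^ (d i - 1)) * Fintype.card A :=
        Nat.mul_le_mul_right _ (k1.trans (Nat.mul_le_mul_left _ k4))
    _ = (powSub A d).index * (_ * Fintype.card A) * ∏ i, q ^ (d i - 1) := by ring
    _ ≤ _ := Nat.mul_le_mul_right _ (Nat.mul_le_mul_left _ k2)
    _ = _ := by ring

end Seq

/-! ### Numerical bounds for `S` -/

theorem sum_divisors_le {D n q : ℕ} (hn : n ≠ 0) (hD : D ∣ n) :
    ∑ h ∈ D.divisors.erase 1, q ^ (n / h) ≤ ∑ j ∈ range (n / 2 + 1), q ^ j := by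
  rw [← sum_image (s := D.divisors.erase 1) (g := fun h => n / h) (f := fun j => q ^ j)]
  · refine sum_le_sum_of_subset fun j hj => ?_
    obtain ⟨h, hh, rfl⟩ := mem_image.1 hj
    have h1 := mem_erase.1 hh
    have h2 := Nat.pos_of_mem_divisors h1.2
    exact mem_range.2 (Nat.lt_succ_of_le (Nat.div_le_div_left (by omega) two_pos))
  · intro a ha b hb e
    have h1 := (Nat.dvd_of_mem_divisors (mem_erase.1 ha).2).trans hD
    have h2 := (Nat.dvd_of_mem_divisors (mem_erase.1 hb).2).trans hD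
    rw [← Nat.div_div_self h1 hn, ← Nat.div_div_self h2 hn]
    exact congrArg (n / ·) e

theorem mul_geom_sum_le (α m : ℕ) : α * ∑ j ∈ range m, (α + 1) ^ j ≤ (α + 1) ^ m := by
  induction m with
  | zero => simp
  | succ m ih => rw [sum_range_succ, mul_add, pow_succ', add_one_mul]; omega

theorem S_le_of_bound {α q n c r : ℕ} (hn : n ≠ 0) (h : ∀ m, K α q m ≤ c * r ^ m) :
    S α q n ≤ K α q n + n.gcd α ^ 2 * (c * ∑ j ∈ range (n / 2 + 1), r ^ j) := by
  refine Nat.add_le_add_left (le_trans ?_ (Nat.mul_le_mul_left _ (Nat.mul_le_mul_left _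
    (sum_divisors_le hn (Nat.gcd_dvd_left n α))))) _
  rw [mul_sum, mul_sum]
  exact sum_le_sum fun k hk => Nat.mul_le_mul ((Nat.sub_le _ _).trans
    (Nat.pow_le_pow_left (Nat.divisor_le (mem_erase.1 hk).2) 2)) (h _)

theorem S_one (α q : ℕ) : S α q 1 = α := by simp [S, K_one]

theorem S_two (α q : ℕ) : S α q 2 = α * q + α + if 2 ∣ α then 3 * α else 0 := by
  rw [S, K_two]
  split_ifs with h
  · rw [Nat.gcd_eq_left h, show (Nat.divisors 2).erase 1 = {2} by decide]
    simp [K_one]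
  · simp [(Nat.Prime.coprime_iff_not_dvd Nat.prime_two).2 h]

theorem S_three (α q : ℕ) : S α q 3 = α * q ^ 2 + α * α + α + if 3 ∣ α then 8 * α else 0 := by
  rw [S, K_three]
  split_ifs with h
  · rw [Nat.gcd_eq_left h, show (Nat.divisors 3).erase 1 = {3} by decide]
    simp [K_one]
  · simp [(Nat.Prime.coprime_iff_not_dvd Nat.prime_three).2 h]

theorem S_four (α q : ℕ) : S α q 4 = K α q 4 + if 4 ∣ α then 3 * (α * q + α) + 15 * α
    else if 2 ∣ α then 3 * (α * q + α) else 0 := by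
  rw [S]
  split_ifs with h h'
  · rw [Nat.gcd_eq_left h, show (Nat.divisors 4).erase 1 = {2, 4} by decide]
    simp [K_one, K_two]
  · obtain ⟨k, rfl⟩ := h'
    have : Nat.gcd 4 (2 * k) = 2 := by
      rw [show 4 = 2 * 2 from rfl, Nat.gcd_mul_left,
        (Nat.Prime.coprime_iff_not_dvd Nat.prime_two).2 (by omega)]
    rw [this, show (Nat.divisors 2).erase 1 = {2} by decide]
    simp [K_two]
  · simp [show Nat.gcd 4 α = 1 from
      ((Nat.Prime.coprime_iff_not_dvd Nat.prime_two).2 h').pow_left 2]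

theorem S_SL_le {α n : ℕ} (hα : 1 ≤ α) (hn : 3 ≤ n) :
    S α (α + 1) n ≤ ((α + 1) ^ (n - 1) + 3 * (α + 1) ^ (n - 2)) * α := by
  by_cases h5 : 5 ≤ n
  · obtain ⟨m, rfl⟩ := Nat.exists_eq_add_of_le' (show 2 ≤ n by omega)
    have h1 := S_le_of_bound (α := α) (q := α + 1) (c := 1) (r := α + 1) (n := m + 2) (by omega)
      fun m => by simpa using K_le_pow α m
    have h2 := mul_geom_sum_le α ((m + 2) / 2 + 1)
    have h3 : (α + 1) ^ ((m + 2) / 2 + 1) ≤ (α + 1) ^ m := Nat.pow_le_pow_right (by omega) (by omega)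
    have h4 := K_le_pow α (m + 2)
    have h6 : (m + 2).gcd α ^ 2 ≤ α * α := sq α ▸ Nat.pow_le_pow_left (Nat.gcd_le_right _ hα) 2
    have h7 := Nat.mul_le_mul h6 (le_refl (1 * ∑ j ∈ range ((m + 2) / 2 + 1), (α + 1) ^ j))
    rw [one_mul, mul_assoc] at h7
    have h8 := Nat.mul_le_mul_left α (h2.trans h3)
    simp only [show m + 2 - 1 = m + 1 from rfl, Nat.add_sub_cancel, pow_succ, one_mul] at *
    nlinarith [Nat.mul_le_mul_left ((α + 1) ^ m) hα]
  · obtain rfl | rfl : n = 3 ∨ n = 4 := by omega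
    · rw [S_three]
      split_ifs with h
      · have := Nat.le_of_dvd hα h
        simp only [show 3 - 1 = 2 from rfl, show 3 - 2 = 1 from rfl]
        nlinarith
      · simp only [show 3 - 1 = 2 from rfl, show 3 - 2 = 1 from rfl]
        nlinarith
    · rw [S_four, K_four]
      simp only [show 4 - 1 = 3 from rfl, show 4 - 2 = 2 from rfl]
      split_ifs with h h'
      · have := Nat.le_of_dvd hα h
        nlinarith [Nat.mul_le_mul_left α (Nat.mul_le_mul_left α this)]
      · have := Nat.le_of_dvd hα h'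
        nlinarith [Nat.mul_le_mul_left α (Nat.mul_le_mul_left α this)]
      · nlinarith [Nat.zero_le (α * α * α)]

theorem S_SL_le' {α n : ℕ} (hα : 1 ≤ α) (hn : 1 ≤ n) :
    2 * S α (α + 1) n ≤ 5 * (α + 1) ^ (n - 1) * α := by
  by_cases h3 : 3 ≤ n
  · have h1 := S_SL_le hα h3
    obtain ⟨m, rfl⟩ := Nat.exists_eq_add_of_le' (show 2 ≤ n by omega)
    simp only [show m + 2 - 1 = m + 1 from rfl, Nat.add_sub_cancel, pow_succ] at *
    nlinarith [Nat.mul_le_mul_left ((α + 1) ^ m * α) hα]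
  · obtain rfl | rfl : n = 1 ∨ n = 2 := by omega
    · rw [S_one]; simp; omega
    · rw [S_two]
      split_ifs with h
      · have := Nat.le_of_dvd hα h
        simp only [show 2 - 1 = 1 from rfl]
        nlinarith
      · simp only [show 2 - 1 = 1 from rfl]
        nlinarith

end Cfsg.Agent.Class.FG
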