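import Cfsg.Agent.Class.FG.Grp

/-!
# Class numbers of subgroups of index two
-/

set_option autoImplicit false

namespace Cfsg.Agent.Class.FG

open Finset

variable {G : Type*} [Group G]

theorem card_conjClasses_congr {H : Type*} [Group H] (e : G ≃* H) :
    Nat.card (ConjClasses G) = Nat.card (ConjClasses H) :=
  Nat.card_congr (Quotient.congr e.toEquiv fun _ _ =>
    ⟨e.toMonoidHom.map_isConj, fun h => show IsConj _ _ by
      simpa using e.symm.toMonoidHom.map_isConj h⟩)

open Classical in
theorem sum_card_commute [Fintype G] :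
    ∑ a : G, (univ.filter fun b => Commute a b).card = Nat.card (ConjClasses G) * Nat.card G := by
  rw [← card_comm_eq_card_conjClasses_mul_card, Nat.card_eq_fintype_card, Fintype.card_subtype]
  simp only [card_filter, Fintype.sum_prod_type]

open Classical in
theorem sum_card_commute_class [Fintype G] (C : ConjClasses G) :
    ∑ a with ConjClasses.mk a = C, (univ.filter fun b => Commute a b).card = Nat.card G := by
  obtain ⟨g, rfl⟩ := ConjClasses.mk_surjective C
  rw [← card_sigma, Nat.card_eq_fintype_card, eq_comm]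
  choose! x hx using fun a (h : ConjClasses.mk a = ConjClasses.mk g) =>
    isConj_iff.1 (ConjClasses.mk_eq_mk_iff_isConj.1 h)
  refine card_bij' (fun y _ => ⟨y⁻¹ * g * y, (x (y⁻¹ * g * y))⁻¹ * y⟩) (fun p _ => x p.1 * p.2)
    (fun y _ => ?_) (fun _ _ => mem_univ _) (fun y _ => by simp) fun p hp => ?_
  · have h : ConjClasses.mk (y⁻¹ * g * y) = ConjClasses.mk g :=
      ConjClasses.mk_eq_mk_iff_isConj.2 (isConj_iff.2 ⟨y, by group⟩)
    have := hx _ h
    simp only [mem_sigma, mem_filter, mem_univ, true_and, h]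
    generalize x (y⁻¹ * g * y) = z at this
    calc _ = z⁻¹ * (z * (y⁻¹ * g * y) * z⁻¹) * y := by group
      _ = _ := by rw [this]; group
  · obtain ⟨a, b⟩ := p
    simp only [mem_sigma, mem_filter, mem_univ, true_and] at hp
    have : (x a * b)⁻¹ * g * (x a * b) = a := by
      rw [← hx a hp.1]
      calc _ = b⁻¹ * (a * b) := by group
        _ = _ := by rw [hp.2.eq, inv_mul_cancel_left]
    simp only [this]
    simp

theorem card_conjClasses_index_two [Finite G] {H : Subgroup G} (hH : H.index = 2)
    (S : Finset (ConjClasses G)) (hS : ∀ g, (∀ b, Commute g b → b ∈ H) → ConjClasses.mk g ∈ S) :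
    2 * Nat.card (ConjClasses H) ≤ Nat.card (ConjClasses G) + 3 * S.card ∧
      Nat.card (ConjClasses G) ≤ 2 * Nat.card (ConjClasses H) := by
  classical
  have := Fintype.ofFinite G
  let c := fun a => (univ.filter fun b => Commute a b ∧ b ∈ H).card
  let d := fun a => (univ.filter fun b => Commute a b ∧ b ∉ H).card
  have h1 : ∀ a, (univ.filter fun b => Commute a b).card = c a + d a := fun a => by
    simp only [c, d, ← filter_filter, card_filter_add_card_filter_not]
  have h2 : ∀ a x, Commute a x → x ∉ H → d a = c a := fun a x h hx =>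
    card_bij' (fun b _ => x * b) (fun b _ => x⁻¹ * b)
      (by simp +contextual [h.mul_right, Subgroup.mul_mem_iff_of_index_two hH, hx])
      (by simp +contextual [h.inv_right.mul_right, Subgroup.mul_mem_iff_of_index_two hH, hx])
      (by simp) (by simp)
  have h3 : ∑ a with a ∉ H, c a = ∑ a with a ∈ H, d a := by
    simp only [c, d, card_filter, sum_filter]
    rw [sum_congr rfl fun a _ => ite_sum_zero _ _ _, sum_comm]
    refine sum_congr rfl fun a _ => (sum_congr rfl fun b _ => ?_).trans (ite_sum_zero _ _ _).symm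
    by_cases a ∈ H <;> by_cases b ∈ H <;> simp [*, Commute.symm_iff]
  have h4 : ∑ a with a ∈ H, c a = Nat.card (ConjClasses H) * Nat.card H := by
    rw [← sum_card_commute, sum_subtype (p := (· ∈ H)) _ (by simp)]
    refine sum_congr rfl fun a _ => (card_bij (fun b _ => b.1) ?_ (by simp) ?_).symm
    · simp [commute_iff_eq, Subtype.ext_iff]
    · simp [commute_iff_eq, Subtype.ext_iff]
  have h5 := sum_card_commute (G := G)
  rw [← sum_filter_add_sum_filter_not _ (· ∈ H), ← H.index_mul_card, hH] at h5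
  simp only [h1, sum_add_distrib] at h5
  rw [sum_congr rfl fun a ha => h2 a a (Commute.refl a) (mem_filter.1 ha).2, h3, h4] at h5
  have h6 : ∑ a with a ∈ H, d a ≤ ∑ a with a ∈ H, c a := sum_le_sum fun a _ => by
    by_cases h : ∃ x, Commute a x ∧ x ∉ H
    · exact (h2 a _ h.choose_spec.1 h.choose_spec.2).le
    · simp only [d, filter_eq_empty_iff.2 fun x _ hx => h ⟨x, hx⟩, card_empty, Nat.zero_le]
  have h7 : ∑ a with a ∈ H, c a ≤ ∑ a with a ∈ H, d a + S.card * (2 * Nat.card H) := by
    rw [← hH, H.index_mul_card, ← smul_eq_mul, ← sum_const,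
      ← sum_congr rfl fun C _ => sum_card_commute_class C, sum_fiberwise_eq_sum_filter, sum_filter,
      sum_filter, sum_filter, ← sum_add_distrib]
    refine sum_le_sum fun a _ => ?_
    by_cases h : ∃ x, Commute a x ∧ x ∉ H
    · rw [h2 a _ h.choose_spec.1 h.choose_spec.2]
      exact Nat.le_add_right _ _
    · rw [if_pos (hS a fun b hb => by_contra fun hb' => h ⟨b, hb, hb'⟩), h1]
      split_ifs <;> omega
  rw [h4] at h6 h7
  have h8 : 0 < Nat.card H := Nat.card_pos
  constructor <;> refine Nat.le_of_mul_le_mul_right ?_ h8 <;> nlinarith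

/-- The subgroup `H ∪ H z` for a central involution `z`. -/
def adjoinInv (H : Subgroup G) {z : G} (h1 : z * z = 1) (h2 : ∀ g, Commute z g) : Subgroup G where
  carrier := {g | g ∈ H ∨ g * z ∈ H}
  one_mem' := Or.inl H.one_mem
  mul_mem' {a b} := by
    rintro (ha | ha) (hb | hb)
    · exact Or.inl (H.mul_mem ha hb)
    · exact Or.inr (mul_assoc a b z ▸ H.mul_mem ha hb)
    · exact Or.inr (by simpa only [mul_assoc, (h2 b).eq] using H.mul_mem ha hb)
    · refine Or.inl ?_
      have := H.mul_mem ha hb
      rwa [mul_assoc, ← (h2 b).eq, ← mul_assoc z, h1, one_mul] at this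
  inv_mem' {a} := Or.imp H.inv_mem fun h => by
    simpa only [mul_inv_rev, inv_eq_of_mul_eq_one_right h1, (h2 _).eq] using H.inv_mem h

theorem card_conjClasses_index_four [Finite G] {H : Subgroup G} (hH : H.index = 4) {z : G}
    (h1 : z * z = 1) (h2 : ∀ g, Commute z g) (h3 : z ∉ H) (S : Finset (ConjClasses G))
    (hS : ∀ g, (∀ b, Commute g b → b ∈ H ∨ b * z ∈ H) → ConjClasses.mk g ∈ S) :
    4 * Nat.card (ConjClasses H) ≤ Nat.card (ConjClasses G) + 3 * S.card ∧
      Nat.card (ConjClasses G) ≤ 4 * Nat.card (ConjClasses H) := by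
  have h4 : H ≤ adjoinInv H h1 h2 := fun _ => Or.inl
  have h5 : z ∈ adjoinInv H h1 h2 := Or.inr (h1 ▸ H.one_mem)
  have h6 : (H.subgroupOf (adjoinInv H h1 h2)).index = 2 :=
    Subgroup.index_eq_two_iff.2 ⟨⟨z, h5⟩, fun b => by
      have : ¬ (b.1 ∈ H ∧ b.1 * z ∈ H) := fun h => h3 ((H.mul_mem_cancel_left h.1).1 h.2)
      have : b.1 ∈ H ∨ b.1 * z ∈ H := b.2
      simp only [Subgroup.mem_subgroupOf, Subgroup.coe_mul, Xor]
      tauto⟩
  have h7 := Subgroup.relIndex_mul_index h4
  rw [Subgroup.relIndex, h6, hH] at h7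
  have h8 := card_conjClasses_index_two (H := adjoinInv H h1 h2) (by omega) S hS
  have h9 := card_conjClasses_index_two h6 ∅ fun g hg =>
    absurd (hg ⟨z, h5⟩ (Subtype.ext (h2 g).symm.eq)) h3
  rw [card_conjClasses_congr (Subgroup.subgroupOfEquivOfLe h4), card_empty] at h9
  omega

end Cfsg.Agent.Class.FG
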