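import Cfsg.Agent.Class.FG.Count
import Cfsg.Agent.Class.Wall.Dual
import Cfsg.Agent.KSG.Cent

/-!
# The level polynomials of a multiset of elementary divisors
-/

set_option autoImplicit false

namespace Cfsg.Agent.Class.FG

open Polynomial UniqueFactorizationMonoid
open Cfsg.Agent.KSG (IsPP mdiv elemDiv)

variable {F : Type*} [Field F]

open Classical in
/-- The irreducible polynomial of which `b` is a power. -/
noncomputable def rad (b : F[X]) : F[X] := radical b

/-- The exponent of a prime power. -/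
noncomputable def expo (b : F[X]) : ℕ := b.natDegree / (rad b).natDegree

theorem rad_pow {p : F[X]} (hp : Irreducible p) (hm : p.Monic) {e : ℕ} (he : e ≠ 0) :
    rad (p ^ e) = p := by
  classical
  rw [rad, radical_pow_of_prime hp.prime he]
  convert hm.normalize_eq_self

theorem expo_pow {p : F[X]} (hp : Irreducible p) (hm : p.Monic) {e : ℕ} (he : e ≠ 0) :
    expo (p ^ e) = e := by
  rw [expo, rad_pow hp hm he, natDegree_pow, Nat.mul_div_cancel _ hp.natDegree_pos]

theorem rad_spec {b : F[X]} (hb : IsPP b) :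
    Irreducible (rad b) ∧ (rad b).Monic ∧ expo b ≠ 0 ∧ rad b ^ expo b = b := by
  obtain ⟨p, e, hp, hm, he, rfl⟩ := hb
  rw [rad_pow hp hm he.ne', expo_pow hp hm he.ne']
  exact ⟨hp, hm, he.ne', rfl⟩

/-- The irreducible polynomials whose `i`-th power is in `s`. -/
noncomputable def levM (s : Multiset F[X]) (i : ℕ) : Multiset F[X] :=
  (s.filter fun b => expo b = i).map rad

/-- The `i`-th level polynomial. -/
noncomputable def lev (s : Multiset F[X]) (i : ℕ) : F[X] := (levM s i).prod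

variable {s t : Multiset F[X]}

theorem mem_levM (hs : ∀ b ∈ s, IsPP b) {i : ℕ} {p : F[X]} (h : p ∈ levM s i) :
    Irreducible p ∧ p.Monic ∧ p ^ i ∈ s := by
  obtain ⟨b, hb', rfl⟩ := Multiset.mem_map.1 h
  obtain ⟨hb, rfl⟩ := Multiset.mem_filter.1 hb'
  obtain ⟨h1, h2, -, h3⟩ := rad_spec (hs b hb)
  exact ⟨h1, h2, by rwa [h3]⟩

theorem map_pow_levM (hs : ∀ b ∈ s, IsPP b) (i : ℕ) :
    (levM s i).map (· ^ i) = s.filter fun b => expo b = i := by
  rw [levM, Multiset.map_map]
  refine (Multiset.map_congr rfl fun b hb' => ?_).trans (Multiset.map_id _)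
  obtain ⟨hb, rfl⟩ := Multiset.mem_filter.1 hb'
  exact (rad_spec (hs b hb)).2.2.2

open Classical in
theorem count_levM (hs : ∀ b ∈ s, IsPP b) {p : F[X]} (hp : Irreducible p) (hm : p.Monic) {i : ℕ}
    (hi : i ≠ 0) : (levM s i).count p = s.count (p ^ i) := by
  rw [← Multiset.count_filter_of_pos (p := fun b => expo b = i) (expo_pow hp hm hi),
    ← map_pow_levM hs, Multiset.count_map, Multiset.count, Multiset.countP_eq_card_filter]
  congr 1
  refine Multiset.filter_congr fun r hr => ⟨by rintro rfl; rfl, fun e => ?_⟩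
  exact (KSG.pow_eq_pow_monic_irreducible hp hm (mem_levM hs hr).1 (mem_levM hs hr).2.1
    (Nat.pos_of_ne_zero hi) e).1

theorem monic_lev (hs : ∀ b ∈ s, IsPP b) (i : ℕ) : (lev s i).Monic := by
  simpa [lev] using monic_multiset_prod_of_monic _ id fun p hp => (mem_levM hs hp).2.1

theorem sum_filter_expo (hs : ∀ b ∈ s, IsPP b) {N : ℕ} (hN : (s.map natDegree).sum ≤ N) :
    ∑ i : Fin N, s.filter (fun b => expo b = i + 1) = s := by
  classical
  ext b
  rw [Multiset.count_sum']
  by_cases hb : b ∈ s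
  · have h1 := (rad_spec (hs b hb)).2.2.1
    have h2 : expo b ≤ N := (Nat.div_le_self _ _).trans (le_trans
      (Multiset.single_le_sum (fun _ _ => Nat.zero_le _) _ (Multiset.mem_map_of_mem _ hb)) hN)
    rw [Finset.sum_eq_single ⟨expo b - 1, by omega⟩ (fun i _ hi => Multiset.count_filter_of_neg
      fun e => hi (Fin.ext (by simp [e]))) (by simp), Multiset.count_filter_of_pos (by simp; omega)]
  · simp [Multiset.count_filter, Multiset.count_eq_zero_of_notMem hb]

theorem prod_lev (hs : ∀ b ∈ s, IsPP b) {N : ℕ} (hN : (s.map natDegree).sum ≤ N) :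
    ∏ i : Fin N, lev s (i + 1) ^ ((i : ℕ) + 1) = s.prod := by
  conv_rhs => rw [← sum_filter_expo hs hN, Multiset.prod_sum]
  exact Finset.prod_congr rfl fun i _ => by
    rw [← map_pow_levM hs, Multiset.prod_map_pow, Multiset.map_id', lev]

theorem sum_natDegree_lev (hs : ∀ b ∈ s, IsPP b) {N : ℕ} (hN : (s.map natDegree).sum ≤ N) :
    ∑ i : Fin N, ((i : ℕ) + 1) * (lev s (i + 1)).natDegree = (s.map natDegree).sum := by
  rw [← natDegree_multiset_prod_of_monic _ fun b hb => (hs b hb).monic, ← prod_lev hs hN,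
    natDegree_prod_of_monic _ _ fun i _ => (monic_lev hs _).pow _]
  simp only [natDegree_pow]

theorem lev_inj (hs : ∀ b ∈ s, IsPP b) (ht : ∀ b ∈ t, IsPP b) {N : ℕ}
    (hN : (s.map natDegree).sum ≤ N) (hN' : (t.map natDegree).sum ≤ N)
    (h : ∀ i : Fin N, lev s (i + 1) = lev t (i + 1)) : s = t := by
  rw [← sum_filter_expo hs hN, ← sum_filter_expo ht hN']
  refine Finset.sum_congr rfl fun i _ => ?_
  rw [← map_pow_levM hs, ← map_pow_levM ht, KSG.multiset_eq_of_prod_eq
    (fun p hp => ⟨(mem_levM hs hp).1, (mem_levM hs hp).2.1⟩)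
    (fun p hp => ⟨(mem_levM ht hp).1, (mem_levM ht hp).2.1⟩) (h i)]

theorem exists_pow_mem (hs : ∀ b ∈ s, IsPP b) {i : ℕ} (h : (lev s i).natDegree ≠ 0) :
    ∃ p : F[X], Irreducible p ∧ p.Monic ∧ p ^ i ∈ s := by
  obtain ⟨p, hp⟩ := Multiset.exists_mem_of_ne_zero (s := levM s i) fun e => h (by simp [lev, e])
  exact ⟨p, mem_levM hs hp⟩

theorem coeff_zero_lev (hs : ∀ b ∈ s, IsPP b) (hX : ∀ b ∈ s, ¬ X ∣ b) {i : ℕ} (hi : i ≠ 0) :
    (lev s i).coeff 0 ≠ 0 := fun h => by
  obtain ⟨p, hp, h1⟩ := prime_X.exists_mem_multiset_dvd (X_dvd_iff.2 h)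
  exact hX _ (mem_levM hs hp).2.2 (h1.trans (dvd_pow_self p hi))

theorem map_lev (hs : ∀ b ∈ s, IsPP b) (φ : F[X] →* F[X])
    (hφ : ∀ b ∈ s, Irreducible (φ (rad b)) ∧ (φ (rad b)).Monic) (i : ℕ) :
    lev (s.map φ) i = φ (lev s i) := by
  have h1 : ∀ b ∈ s, rad (φ b) = φ (rad b) ∧ expo (φ b) = expo b := fun b hb => by
    obtain ⟨-, -, h2, h3⟩ := rad_spec (hs b hb)
    have : φ b = φ (rad b) ^ expo b := by rw [← map_pow, h3]
    rw [this]
    exact ⟨rad_pow (hφ b hb).1 (hφ b hb).2 h2, expo_pow (hφ b hb).1 (hφ b hb).2 h2⟩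
  rw [lev, lev, map_multiset_prod, levM, levM, Multiset.filter_map, Multiset.map_map,
    Multiset.map_map, Multiset.filter_congr (q := fun b => expo b = i) fun b hb => by
      rw [Function.comp_apply, (h1 b hb).2]]
  exact congrArg _ (Multiset.map_congr rfl fun b hb => (h1 b (Multiset.mem_filter.1 hb).1).1)

theorem dual_lev {σ : F →+* F} (hσ : ∀ a, σ (σ a) = a) (hs : ∀ b ∈ s, IsPP b)
    (hX : ∀ b ∈ s, ¬ X ∣ b) (hd : s.map (Wall.dual σ) = s) (i : ℕ) :
    Wall.dual σ (lev s i) = lev s i := by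
  have := map_lev hs (Wall.dualHom σ) (fun b hb => by
    obtain ⟨h1, -, h2, h3⟩ := rad_spec (hs b hb)
    have h0 : (rad b).coeff 0 ≠ 0 := fun e =>
      hX b hb (h3 ▸ (X_dvd_iff.2 e).trans (dvd_pow_self _ h2))
    exact ⟨Wall.irreducible_dual hσ h1 h0, Wall.monic_dual h0⟩) i
  exact this.symm.trans (congrArg (lev · i) hd)

open Classical in
theorem rootMultiplicity_lev (hs : ∀ b ∈ s, IsPP b) (c : F) {i : ℕ} (hi : i ≠ 0) :
    (lev s i).rootMultiplicity c = s.count ((X - C c) ^ i) := by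
  rw [← count_levM hs (irreducible_X_sub_C c) (monic_X_sub_C c) hi, lev]
  have : ∀ p ∈ levM s i, Irreducible p ∧ p.Monic := fun p hp =>
    ⟨(mem_levM hs hp).1, (mem_levM hs hp).2.1⟩
  generalize levM s i = u at this
  induction u using Multiset.induction_on with
  | empty => simp
  | cons p u ih =>
    have h1 := this p (by simp)
    have h2 : ∀ r ∈ u, Irreducible r ∧ r.Monic := fun r hr => this r (by simp [hr])
    rw [Multiset.prod_cons, rootMultiplicity_mul (mul_ne_zero h1.1.ne_zero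
      (Multiset.prod_ne_zero fun h => (h2 0 h).1.ne_zero rfl)), ih h2, Multiset.count_cons, add_comm]
    congr 1
    split_ifs with h
    · rw [← h, rootMultiplicity_X_sub_C_self]
    · exact rootMultiplicity_eq_zero fun e => h (eq_of_monic_of_associated (monic_X_sub_C c) h1.2
        ((irreducible_X_sub_C c).associated_of_dvd h1.1 (dvd_iff_isRoot.2 e)))

/-! ### Determinants on centralisers -/

theorem det_aeval_of_splits {n : Type*} [Fintype n] [DecidableEq n] (M : Matrix n n F) {r : F[X]}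
    (hr : r.Splits) : (aeval M r).det = r.leadingCoeff ^ Fintype.card n *
      (r.roots.map fun b => (-1) ^ Fintype.card n * M.charpoly.eval b).prod := by
  conv_lhs => rw [hr.eq_prod_roots]
  rw [map_mul, Matrix.det_mul, aeval_C, Algebra.algebraMap_eq_smul_one, Matrix.det_smul,
    Matrix.det_one, mul_one]
  congr 1
  induction r.roots using Multiset.induction_on with
  | empty => simp
  | cons b u ih =>
    rw [Multiset.map_cons, Multiset.prod_cons, map_mul, Matrix.det_mul, ih, Multiset.map_cons,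
      Multiset.prod_cons, Matrix.eval_charpoly, ← Matrix.det_neg, neg_sub]
    simp [Matrix.algebraMap_eq_diagonal, Pi.algebraMap_def]

theorem det_aeval_of_charpoly {m n : Type*} [Fintype m] [DecidableEq m] [Fintype n] [DecidableEq n]
    {M : Matrix m m F} {M' : Matrix n n F} {e : ℕ} (h : M'.charpoly = M.charpoly ^ e) (r : F[X]) :
    (aeval M' r).det = (aeval M r).det ^ e := by
  let φ := algebraMap F (AlgebraicClosure F)
  have h1 : Fintype.card n = Fintype.card m * e := by
    simpa [mul_comm] using congrArg natDegree h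
  apply φ.injective
  rw [map_pow, RingHom.map_det, RingHom.map_det, RingHom.mapMatrix_apply, RingHom.mapMatrix_apply,
    ← KSG.aeval_map_map, ← KSG.aeval_map_map, det_aeval_of_splits _ (IsAlgClosed.splits _),
    det_aeval_of_splits _ (IsAlgClosed.splits _), Matrix.charpoly_map, Matrix.charpoly_map, h, h1]
  simp only [mul_pow, pow_mul, ← Multiset.prod_map_pow, Polynomial.map_pow, eval_pow]

theorem norm_mk_pow {p : F[X]} (hp : p.Monic) (e : ℕ) (r : F[X]) :
    Algebra.norm F (AdjoinRoot.mk (p ^ e) r) = Algebra.norm F (AdjoinRoot.mk p r) ^ e := by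
  have key : ∀ {a : F[X]} (ha : a.Monic), Algebra.norm F (AdjoinRoot.mk a r) = (aeval
      (Algebra.leftMulMatrix (AdjoinRoot.powerBasis ha.ne_zero).basis (AdjoinRoot.root a)) r).det ∧
      (Algebra.leftMulMatrix (AdjoinRoot.powerBasis ha.ne_zero).basis
        (AdjoinRoot.root a)).charpoly = a := fun ha =>
    ⟨by rw [aeval_algHom_apply, AdjoinRoot.aeval_eq,
        Algebra.norm_eq_matrix_det (AdjoinRoot.powerBasis ha.ne_zero).basis],
      (charpoly_leftMulMatrix (AdjoinRoot.powerBasis ha.ne_zero)).trans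
        (AdjoinRoot.minpoly_powerBasis_gen_of_monic ha)⟩
  rw [(key hp).1, (key (hp.pow e)).1]
  exact det_aeval_of_charpoly (by rw [(key hp).2, (key (hp.pow e)).2]) r

theorem exists_commute_det_pow [Finite F] {n : Type*} [Fintype n] [DecidableEq n] {A : Matrix n n F}
    {p : F[X]} (hp : Irreducible p) (hm : p.Monic) {e : ℕ} (hb : p ^ e ∈ mdiv A) {d : F}
    (hd : d ≠ 0) : ∃ c : GL n F, (c : Matrix n n F) * A = A * c ∧ (c : Matrix n n F).det = d ^ e := by
  classical
  obtain ⟨k, c, hc, ⟨f, hf⟩, h⟩ := KSG.exists_sim_cycEnd_elemDiv (Matrix.toLin' A)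
  rw [mdiv, h, Multiset.mem_map] at hb
  obtain ⟨i, -, hi⟩ := hb
  have := Fact.mk hp
  have := hm.finite_adjoinRoot
  have : Finite (AdjoinRoot p) := Module.finite_of_finite F
  obtain ⟨x, hx⟩ := FiniteField.norm_surjective F (AdjoinRoot p) d
  obtain ⟨r, rfl⟩ := AdjoinRoot.mk_surjective x
  let y : KSG.Cyc c := Pi.mulSingle i (AdjoinRoot.mk _ r)
  have hy : LinearMap.det (KSG.cycMul c y) = d ^ e := by
    rw [KSG.det_cycMul c fun i => (hc i).monic, Finset.prod_eq_single i]
    · simp only [y, Pi.mulSingle_eq_same]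
      rw [hi, norm_mk_pow hm, hx]
    · intro j _ hj
      simp [y, Pi.mulSingle_eq_of_ne hj]
    · simp
  obtain ⟨M, h1, h2, -⟩ := KSG.exists_commute_of_sim f hf _ (KSG.cycMul_commute c y)
  rw [hy] at h2
  exact ⟨Matrix.GeneralLinearGroup.mkOfDetNeZero M (h2 ▸ pow_ne_zero _ hd), h1, h2⟩

end Cfsg.Agent.Class.FG
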