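import Cfsg.Agent.Class.FG.Lev
import Cfsg.Agent.Class.FG.Grp
import Cfsg.Agent.Class.LinearBasic

/-!
# Class numbers of linear groups
-/

set_option autoImplicit false

namespace Cfsg.Agent.Class.FG

open Polynomial Module
open Cfsg.Agent.KSG (IsPP mdiv elemDiv gdeg)

variable {F : Type*} [Field F]

/-- `scaleRoots` as a multiplicative automorphism. -/
noncomputable def scaleEquiv (z : Fˣ) : F[X] ≃* F[X] where
  toFun f := f.scaleRoots z
  invFun f := f.scaleRoots (z⁻¹ : Fˣ)
  left_inv f := by simp only [← scaleRoots_mul, Units.mul_inv, scaleRoots_one]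
  right_inv f := by simp only [← scaleRoots_mul, Units.inv_mul, scaleRoots_one]
  map_mul' f g := mul_scaleRoots_of_noZeroDivisors f g z

theorem scaleEquiv_apply (z : Fˣ) (f : F[X]) : scaleEquiv z f = f.scaleRoots z := rfl

theorem gdeg_scaleEquiv (z : Fˣ) (a b : F[X]) :
    gdeg (scaleEquiv z a) (scaleEquiv z b) = gdeg a b := by
  classical
  obtain ⟨d, d1, d2, d3⟩ : ∃ d, d ∣ a ∧ d ∣ b ∧ ∀ c, c ∣ a → c ∣ b → c ∣ d :=
    ⟨EuclideanDomain.gcd a b, EuclideanDomain.gcd_dvd_left _ _, EuclideanDomain.gcd_dvd_right _ _,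
      fun c => EuclideanDomain.dvd_gcd⟩
  rw [KSG.gdeg_eq_of_isGcd d1 d2 d3, KSG.gdeg_eq_of_isGcd (_root_.map_dvd (scaleEquiv z) d1)
    (_root_.map_dvd (scaleEquiv z) d2) fun c h1 h2 => ?_, scaleEquiv_apply, natDegree_scaleRoots]
  obtain ⟨c, rfl⟩ := (scaleEquiv z).surjective c
  exact _root_.map_dvd _ (d3 c ((map_dvd_iff _).1 h1) ((map_dvd_iff _).1 h2))

theorem elemDiv_smul {V : Type*} [AddCommGroup V] [Module F V] [FiniteDimensional F V] (z : Fˣ)
    (f : End F V) : elemDiv ((z : F) • f) = (elemDiv f).map (scaleEquiv z) := by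
  refine KSG.elemDiv_eq_of_finrank_ker (fun b hb => ?_) fun p _ _ k _ => ?_
  · obtain ⟨b, hb', rfl⟩ := Multiset.mem_map.1 hb
    obtain ⟨p, e, h1, h2, h3, rfl⟩ := KSG.isPP_of_mem_elemDiv hb'
    exact ⟨scaleEquiv z p, e, (MulEquiv.irreducible_iff _).2 h1, (monic_scaleRoots_iff _).2 h2, h3,
      map_pow _ _ _⟩
  · obtain ⟨a, ha⟩ := (scaleEquiv z).surjective (p ^ k)
    have h1 := scaleRoots_eval₂_mul_of_commute (p := a) (algebraMap F (End F V)) f z
      (Algebra.commutes _ _) fun _ _ => (Commute.all _ _).map _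
    rw [← aeval_def, ← aeval_def, ← Algebra.smul_def, ← map_pow, ← Algebra.smul_def,
      ← scaleEquiv_apply] at h1
    rw [← ha, h1, LinearMap.ker_smul _ _ (pow_ne_zero _ z.ne_zero),
      KSG.finrank_ker_aeval, Multiset.map_map]
    exact congrArg _ (Multiset.map_congr rfl fun b _ => (gdeg_scaleEquiv z a b).symm)

theorem expand_contract_of_scale {z : Fˣ} (hz : orderOf z ≠ 0) {f : F[X]} (h0 : f.coeff 0 ≠ 0)
    (h : scaleEquiv z f = f) : expand F (orderOf z) (contract (orderOf z) f) = f := by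
  have key : ∀ i, f.coeff i ≠ 0 → orderOf z ∣ f.natDegree - i := fun i hi => by
    have := congrArg (coeff · i) h
    simp only [scaleEquiv_apply, coeff_scaleRoots, mul_eq_left₀ hi] at this
    exact orderOf_dvd_of_pow_eq_one (Units.ext (by simpa using this))
  ext i
  rw [coeff_expand (Nat.pos_of_ne_zero hz), coeff_contract hz]
  split_ifs with hi
  · rw [Nat.div_mul_cancel hi]
  · by_contra e
    have h1 := le_natDegree_of_ne_zero (Ne.symm e)
    exact hi (by simpa [Nat.sub_sub_self h1] using Nat.dvd_sub (key 0 h0) (key i (Ne.symm e)))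

theorem scaleEquiv_lev {s : Multiset F[X]} (hs : ∀ b ∈ s, IsPP b) {z : Fˣ}
    (h : s.map (scaleEquiv z) = s) (i : ℕ) : scaleEquiv z (lev s i) = lev s i :=
  (map_lev hs (scaleEquiv z).toMonoidHom (fun b hb => ⟨(MulEquiv.irreducible_iff (scaleEquiv z)).2
    (rad_spec (hs b hb)).1, (monic_scaleRoots_iff _).2 (rad_spec (hs b hb)).2.1⟩) i).symm.trans
    (congrArg (lev · i) h)

open Classical in
/-- The constant term as a unit. -/
noncomputable def cU (f : F[X]) : Fˣ := if h : f.coeff 0 = 0 then 1 else Units.mk0 _ h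

theorem coe_cU {f : F[X]} (h : f.coeff 0 ≠ 0) : (cU f : F) = f.coeff 0 := by simp [cU, h]

theorem prod_coeff_lev {n : ℕ} (A : Matrix (Fin n) (Fin n) F) :
    ∏ i : Fin n, (lev (mdiv A) (i + 1)).coeff 0 ^ ((i : ℕ) + 1) = (-1) ^ n * A.det := by
  have h := congrArg constantCoeff (prod_lev (fun _ => KSG.isPP_of_mem_mdiv (A := A))
    (N := n) (by simp [KSG.sum_natDegree_mdiv]))
  simp only [map_prod, map_pow, constantCoeff_apply, KSG.prod_mdiv] at h
  rw [h, Matrix.det_eq_sign_charpoly_coeff, Fintype.card_fin, ← mul_assoc, ← mul_pow]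
  simp

theorem isConj_of_lev {n : ℕ} {A B : Matrix (Fin n) (Fin n) F}
    (h : ∀ i : Fin n, lev (mdiv A) (i + 1) = lev (mdiv B) (i + 1)) : IsConj A B :=
  KSG.isConj_iff_mdiv.2 (lev_inj (fun _ => KSG.isPP_of_mem_mdiv) (fun _ => KSG.isPP_of_mem_mdiv)
    (by simp [KSG.sum_natDegree_mdiv]) (by simp [KSG.sum_natDegree_mdiv]) h)

theorem sum_natDegree_lev_mdiv {n : ℕ} (A : Matrix (Fin n) (Fin n) F) :
    ∑ i : Fin n, ((i : ℕ) + 1) * (lev (mdiv A) (i + 1)).natDegree = n := by
  simpa [KSG.sum_natDegree_mdiv] using sum_natDegree_lev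
    (fun _ => KSG.isPP_of_mem_mdiv (A := A)) (N := n) (by simp [KSG.sum_natDegree_mdiv])

theorem coeff_zero_lev_mdiv {n : Type*} [Fintype n] [DecidableEq n] {A : Matrix n n F}
    (hA : IsUnit A) (i : ℕ) : (lev (mdiv A) (i + 1)).coeff 0 ≠ 0 :=
  coeff_zero_lev (fun _ => KSG.isPP_of_mem_mdiv) ((KSG.isUnit_iff_mdiv A).1 hA) i.succ_ne_zero

variable [Finite F]

variable (F) in
theorem finite_monic (e : ℕ) : {f : F[X] | f.Monic ∧ f.natDegree = e}.Finite :=
  Finite.of_equiv _ ((monicEquivDegreeLT (R := F) e).trans (degreeLTEquiv F e).toEquiv).symm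

variable (F) in
/-- The monic polynomials of degree `e`. -/
noncomputable def monFin (e : ℕ) : Finset F[X] := (finite_monic F e).toFinset

theorem mem_monFin {e : ℕ} {f : F[X]} : f ∈ monFin F e ↔ f.Monic ∧ f.natDegree = e := by
  simp [monFin]

theorem card_filter_monFin (e : ℕ) (R : F[X] → Prop) [DecidablePred R] :
    ((monFin F e).filter R).card = Nat.card {f : F[X] // f.Monic ∧ f.natDegree = e ∧ R f} :=
  (Nat.subtype_card _ fun f => by simp [mem_monFin, and_assoc]).symm

theorem card_monFin_zero : (monFin F 0).card ≤ 1 :=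
  Finset.card_le_one.2 fun _ ha _ hb => by
    rw [eq_one_of_monic_natDegree_zero (mem_monFin.1 ha).1 (mem_monFin.1 ha).2,
      eq_one_of_monic_natDegree_zero (mem_monFin.1 hb).1 (mem_monFin.1 hb).2]

theorem card_conjClasses_GL_le (n : ℕ) :
    Nat.card (ConjClasses (GL (Fin n) F)) ≤ K (Nat.card F - 1) (Nat.card F) n := by
  classical
  have := Fintype.ofFinite (ConjClasses (GL (Fin n) F))
  rw [Nat.card_eq_fintype_card, ← Finset.card_univ]
  refine (card_le_W natDegree (fun _ e => (monFin F e).filter fun f => f.coeff 0 ≠ 0) _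
    (fun C i => lev (mdiv (Quotient.out C : GL (Fin n) F).1) (i + 1)) (fun C _ D _ e => ?_)
    (fun C _ => sum_natDegree_lev_mdiv _) fun C _ i => Finset.mem_filter.2 ⟨mem_monFin.2
      ⟨monic_lev (fun _ => KSG.isPP_of_mem_mdiv) _, rfl⟩, coeff_zero_lev_mdiv (Units.isUnit _) _⟩).trans
    (W_mono (fun _ e => ?_) n n)
  · exact eq_of_isConj_out (KSG.isConj_GL_iff.2 (isConj_of_lev (congrFun e)))
  · unfold aL
    split_ifs with h
    · exact (Finset.card_filter_le _ _).trans (h ▸ card_monFin_zero)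
    · rw [card_filter_monFin, KSG.card_monic_coeff_zero (by omega) (· ≠ 0)]
      have := Fintype.ofFinite F
      simp

/-- The classes of `SL_n` whose `GL_n`-class is invariant under multiplication by `z`. -/
theorem card_SL_mul_le {n : ℕ} (z : Fˣ) (s : Finset (ConjClasses (Matrix.SpecialLinearGroup (Fin n) F)))
    (hs : ∀ C ∈ s, IsConj ((z : F) • (Quotient.out C).1) (Quotient.out C).1) :
    s.card * (Nat.card F - 1) ≤ S (Nat.card F - 1) (Nat.card F) (n / orderOf z) := by
  classical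
  have hz := (orderOf_pos z).ne'
  have hu : ∀ A : Matrix.SpecialLinearGroup (Fin n) F, IsUnit A.1 := fun A =>
    (Matrix.SpecialLinearGroup.toGL A).isUnit
  have h1 : ∀ C ∈ s, ∀ i, expand F (orderOf z) (contract (orderOf z)
      (lev (mdiv (Quotient.out C).1) (i + 1))) = lev (mdiv (Quotient.out C).1) (i + 1) :=
    fun C hC i => expand_contract_of_scale hz (coeff_zero_lev_mdiv (hu _) i)
      (scaleEquiv_lev (fun _ => KSG.isPP_of_mem_mdiv) (by
        rw [mdiv, ← elemDiv_smul, ← map_smul]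
        exact KSG.isConj_iff_mdiv.1 (hs C hC)) _)
  have h2 : ∀ C ∈ s, ∀ i, (contract (orderOf z) (lev (mdiv (Quotient.out C).1) (i + 1))).Monic :=
    fun C hC i => (monic_expand_iff (Nat.pos_of_ne_zero hz)).1
      ((h1 C hC i).symm ▸ monic_lev (fun _ => KSG.isPP_of_mem_mdiv) _)
  have h3 : ∀ C : ConjClasses (Matrix.SpecialLinearGroup (Fin n) F), ∀ i,
      (cU (contract (orderOf z) (lev (mdiv (Quotient.out C).1) (i + 1))) : F) =
      (lev (mdiv (Quotient.out C).1) (i + 1)).coeff 0 := fun C i => by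
    rw [coe_cU, coeff_contract hz, zero_mul]
    rw [coeff_contract hz, zero_mul]
    exact coeff_zero_lev_mdiv (hu _) i
  rw [← Nat.card_units]
  refine card_mul_le_S natDegree cU (fun e y => (monFin F e).filter fun f => f.coeff 0 = (y : Fˣ))
    (fun e y => ?_) s (fun C (i : Fin n) => contract (orderOf z)
      (lev (mdiv (Quotient.out C).1) (i + 1))) (z := (-1) ^ n) (fun C hC => ?_)
    (fun C hC i => Finset.mem_filter.2 ⟨mem_monFin.2 ⟨h2 C hC i, rfl⟩, by
      rw [h3, coeff_contract hz, zero_mul]⟩) (fun C hC i hi => ?_) (fun C hC => Units.ext ?_)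
    fun C hC => ?_
  · rcases eq_or_ne e 0 with rfl | he
    · exact (Finset.card_filter_le _ _).trans card_monFin_zero
    · rw [card_filter_monFin, KSG.card_monic_coeff_zero (by omega) (· = (y : F))]
      simp
  · refine Nat.eq_div_of_mul_eq_left hz ?_
    conv_rhs => rw [← sum_natDegree_lev_mdiv (Quotient.out C).1]
    rw [Finset.sum_mul]
    exact Finset.sum_congr rfl fun i _ => by rw [mul_assoc, ← natDegree_expand, h1 C hC]
  · rw [eq_one_of_monic_natDegree_zero (h2 C hC i) hi]
    simp [cU]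
  · simp only [Units.coe_prod, Units.val_pow_eq_pow_val, h3, prod_coeff_lev]
    simp
  · refine card_le_index_powSub Matrix.SpecialLinearGroup.toGL
      Matrix.SpecialLinearGroup.toGL_injective Matrix.GeneralLinearGroup.det range_toGL_eq_ker_det
      (Quotient.out C) _ (fun i hi u => ?_) _
      fun D hD => KSG.isConj_GL_iff.2 (isConj_of_lev fun i => ?_)
    · obtain ⟨p, p1, p2, p3⟩ := exists_pow_mem (s := mdiv (Quotient.out C).1) (i := i + 1)
        (fun _ => KSG.isPP_of_mem_mdiv) (by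
          rw [← h1 C hC, natDegree_expand]; exact mul_ne_zero hi hz)
      obtain ⟨c, c1, c2⟩ := exists_commute_det_pow p1 p2 p3 u.ne_zero
      exact ⟨c, Units.ext c1, Units.ext (by simpa using c2)⟩
    · obtain ⟨hD, e⟩ := Finset.mem_filter.1 hD
      exact (h1 C hC i).symm.trans ((congrArg _ (congrFun e i).symm).trans (h1 D hD i))

theorem card_conjClasses_SL_mul_le (n : ℕ) :
    Nat.card (ConjClasses (Matrix.SpecialLinearGroup (Fin n) F)) * (Nat.card F - 1) ≤
      S (Nat.card F - 1) (Nat.card F) n := by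
  have := Fintype.ofFinite (ConjClasses (Matrix.SpecialLinearGroup (Fin n) F))
  simpa using card_SL_mul_le (F := F) (n := n) 1 Finset.univ fun C _ => by rw [Units.val_one, one_smul]

end Cfsg.Agent.Class.FG
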