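import Cfsg.Agent.Class.FG.Count

/-!
# Numerical bounds for infinite products
-/

set_option autoImplicit false

namespace Cfsg.Agent.Class.FG

open Finset

theorem prod_le_of_geom {γ : ℕ → ℝ} (h0 : ∀ i, 1 ≤ γ i) (M : ℕ) {κ r : ℝ} (hκ : 0 ≤ κ) (hr : 0 ≤ r)
    (hr1 : r < 1) (h : ∀ i, M ≤ i → γ i ≤ 1 + κ * r ^ i) (ht : κ * (r ^ M / (1 - r)) < 1) (N : ℕ) :
    ∏ i ∈ range N, γ i ≤ (∏ i ∈ range M, γ i) * (1 / (1 - κ * (r ^ M / (1 - r)))) := by
  have h1 : 0 ≤ κ * (r ^ M / (1 - r)) := mul_nonneg hκ (div_nonneg (by positivity) (by linarith))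
  have h2 : ∀ s, 0 ≤ ∏ i ∈ s, γ i := fun s => prod_nonneg fun i _ => zero_le_one.trans (h0 i)
  rcases le_total N M with hN | hN
  · refine le_trans (prod_le_prod_of_subset_of_one_le (range_mono hN)
      (fun i _ => zero_le_one.trans (h0 i)) fun i _ _ => h0 i) (le_mul_of_one_le_right (h2 _) ?_)
    rw [le_div_iff₀ (by linarith)]
    linarith
  · rw [← prod_range_mul_prod_Ico _ hN]
    refine mul_le_mul_of_nonneg_left (le_trans ?_ (Real.exp_bound_div_one_sub_of_interval h1 ht)) (h2 _)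
    refine (prod_le_prod (g := fun i => Real.exp (κ * r ^ i)) (fun i _ => zero_le_one.trans (h0 i))
      fun i hi => (h i (mem_Ico.1 hi).1).trans ((add_comm _ _).le.trans (Real.add_one_le_exp _))).trans ?_
    rw [← Real.exp_sum, ← mul_sum]
    exact Real.exp_le_exp.2 (mul_le_mul_of_nonneg_left (geom_sum_Ico_le_of_lt_one hr hr1) hκ)

theorem prod_frac_le {ρ x : ℝ} (hρ : 0 ≤ ρ) (hx : 0 ≤ x) (hx1 : x < 1) (M : ℕ) {C : ℝ}
    (ht : ρ * x / (1 - x ^ (M + 1)) * (x ^ M / (1 - x)) < 1)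
    (hC : (∏ i ∈ range M, (1 + ρ * (x ^ (i + 1) / (1 - x ^ (i + 1))))) *
      (1 / (1 - ρ * x / (1 - x ^ (M + 1)) * (x ^ M / (1 - x)))) ≤ C) (N : ℕ) :
    ∏ i ∈ range N, (1 + ρ * (x ^ (i + 1) / (1 - x ^ (i + 1)))) ≤ C := by
  have h1 : ∀ i, 0 < 1 - x ^ (i + 1) := fun i => sub_pos.2 (pow_lt_one₀ hx hx1 i.succ_ne_zero)
  refine (prod_le_of_geom (fun i => le_add_of_nonneg_right (mul_nonneg hρ
    (div_nonneg (by positivity) (h1 i).le))) M (div_nonneg (by positivity) (h1 M).le) hx hx1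
    (fun i hi => ?_) ht N).trans hC
  have h2 : 1 - x ^ (M + 1) ≤ 1 - x ^ (i + 1) :=
    sub_le_sub_left (pow_le_pow_of_le_one hx hx1.le (by omega)) _
  rw [div_mul_eq_mul_div, mul_assoc, ← pow_succ', mul_div_assoc]
  have := h1 M
  gcongr

theorem sum_aL_le {α q : ℕ} {ρ x : ℝ} (hq : 0 < (q : ℝ)) (hx : (q : ℝ)⁻¹ ≤ x) (hx1 : x < 1)
    (hρ : α ≤ ρ * q) (i M : ℕ) : ∑ e ∈ range M, (aL α q e : ℝ) * ((q : ℝ)⁻¹ ^ (i + 2)) ^ e ≤
      1 + ρ * (x ^ (i + 1) / (1 - x ^ (i + 1))) := by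
  have h0 : 0 ≤ x := (inv_pos.2 hq).le.trans hx
  have h1 : x ^ (i + 1) < 1 := pow_lt_one₀ h0 hx1 i.succ_ne_zero
  have hρ0 : 0 ≤ ρ := nonneg_of_mul_nonneg_left ((Nat.cast_nonneg α).trans hρ) hq
  refine le_trans (sum_le_sum_of_subset_of_nonneg (range_mono M.le_succ) fun _ _ _ => by positivity) ?_
  rw [sum_range_succ', add_comm]
  refine add_le_add (by simp [aL]) ?_
  have h2 := geom_sum_Ico_le_of_lt_one (m := 1) (n := M + 1) (pow_nonneg h0 (i + 1)) h1
  rw [pow_one, sum_Ico_eq_sum_range, Nat.add_sub_cancel] at h2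
  refine le_trans ?_ (mul_le_mul_of_nonneg_left h2 hρ0)
  rw [mul_sum]
  refine sum_le_sum fun e _ => ?_
  calc _ = α * (q : ℝ)⁻¹ * ((q : ℝ)⁻¹ ^ (i + 1)) ^ (1 + e) := by
        simp only [aL, Nat.succ_ne_zero, if_false, Nat.add_sub_cancel, Nat.cast_mul, Nat.cast_pow,
          inv_pow]
        field_simp
        ring
    _ ≤ _ := by
      gcongr
      rwa [mul_inv_le_iff₀ hq]

theorem W_one (a : ℕ → ℕ → ℕ) (n : ℕ) : W a 1 n = a 1 n := by
  rw [W, sum_eq_single_of_mem n (by simp) fun e he hne => by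
    simp only [zero_add, Nat.div_one, mem_range] at he
    simp [W, show n - e ≠ 0 by omega]]
  simp [W]

theorem K_le_real {α q : ℕ} {ρ x C : ℝ} (hq : 0 < (q : ℝ)) (hx : (q : ℝ)⁻¹ ≤ x) (hx1 : x < 1)
    (hρ : α ≤ ρ * q) (h1 : 1 ≤ ρ)
    (hC : ∀ N, ∏ i ∈ range N, (1 + ρ * (x ^ (i + 1) / (1 - x ^ (i + 1)))) ≤ C) (m : ℕ) :
    (K α q m : ℝ) ≤ ρ * C * q ^ m := by
  have h0 : 0 ≤ x := (inv_pos.2 hq).le.trans hx
  have key : ∀ N n, (W (fun _ => aL α q) (N + 1) n : ℝ) ≤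
      ρ * (∏ i ∈ range N, (1 + ρ * (x ^ (i + 1) / (1 - x ^ (i + 1))))) * q ^ n := fun N => by
    induction N with
    | zero =>
      intro n
      rw [W_one, prod_range_zero, mul_one]
      obtain _ | n := n
      · simpa [aL] using h1
      · simp only [aL, Nat.succ_ne_zero, if_false, Nat.add_sub_cancel, Nat.cast_mul, Nat.cast_pow,
          pow_succ', ← mul_assoc]
        gcongr
    | succ N ih =>
      intro n
      rw [prod_range_succ, ← mul_assoc]
      refine W_succ_le hq (mul_nonneg (by linarith) (prod_nonneg fun i _ => ?_)) ih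
        (sum_aL_le hq hx hx1 hρ N) n
      have := sub_pos.2 (pow_lt_one₀ h0 hx1 i.succ_ne_zero)
      positivity
  refine le_trans (Nat.cast_le.2 (W_le_succ (fun _ => rfl) m m)) ((key m m).trans ?_)
  have := hC m
  gcongr

theorem K_three_two_le (m : ℕ) : 100 * K 3 2 m ≤ 839 * 2 ^ m := by
  have := K_le_real (α := 3) (q := 2) (ρ := 3 / 2) (x := 1 / 2) (C := 5.59) (by norm_num)
    (by norm_num) (by norm_num) (by norm_num) (by norm_num) (prod_frac_le (by norm_num) (by norm_num)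
      (by norm_num) 5 (by norm_num) (by norm_num [prod_range_succ])) m
  have h : (0 : ℝ) ≤ 2 ^ m := by positivity
  rw [← Nat.cast_le (α := ℝ)]
  push_cast at this ⊢
  linarith

theorem K_GU_le {q : ℕ} (hq : 3 ≤ q) (m : ℕ) : K (q + 1) q m ≤ 3 * q ^ m := by
  have h3 : (3 : ℝ) ≤ q := by exact_mod_cast hq
  have := K_le_real (α := q + 1) (q := q) (ρ := 4 / 3) (x := 1 / 3) (C := 9 / 4) (by linarith)
    (by rw [one_div]; gcongr) (by norm_num) (by push_cast; linarith) (by norm_num)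
    (prod_frac_le (by norm_num) (by norm_num) (by norm_num) 3 (by norm_num)
      (by norm_num [prod_range_succ])) m
  rw [← Nat.cast_le (α := ℝ)]
  push_cast at this ⊢
  linarith

theorem K_self_le {q : ℕ} (hq : 3 ≤ q) (m : ℕ) : (K q q m : ℝ) ≤ 1.787 * q ^ m := by
  have h3 : (3 : ℝ) ≤ q := by exact_mod_cast hq
  simpa using K_le_real (α := q) (q := q) (ρ := 1) (x := 1 / 3) (C := 1.787) (by linarith)
    (by rw [one_div]; gcongr) (by norm_num) (by simp) le_rfl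
    (prod_frac_le (by norm_num) (by norm_num) (by norm_num) 4 (by norm_num)
      (by norm_num [prod_range_succ])) m

theorem two_mul_geom_sum_le {q : ℕ} (hq : 3 ≤ q) (m : ℕ) :
    2 * ∑ j ∈ range (m + 1), q ^ j ≤ 3 * q ^ m := by
  induction m with
  | zero => simp
  | succ m ih =>
    rw [sum_range_succ, mul_add, pow_succ]
    nlinarith [Nat.mul_le_mul_left (q ^ m) hq]

theorem S_SU_le {q n : ℕ} (hq : 2 ≤ q) (hn : 2 ≤ n) :
    100 * S (q + 1) q n ≤ 826 * q ^ (n - 1) * (q + 1) := by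
  obtain ⟨m, rfl⟩ := Nat.exists_eq_add_of_le' (show 1 ≤ n by omega)
  rw [Nat.add_sub_cancel]
  rcases hq.eq_or_lt with rfl | hq
  · have h1 := K_three_two_le (m + 1)
    rw [S]
    rcases (Nat.dvd_prime Nat.prime_three).1 (Nat.gcd_dvd_right (m + 1) 3) with h | h
    · simp only [Nat.reduceAdd, h, Nat.divisors_one, erase_singleton, sum_empty]
      omega
    · obtain ⟨k, hk⟩ : 3 ∣ m + 1 := h ▸ Nat.gcd_dvd_left (m + 1) 3
      have h2 := K_le_pow' (α := 3) (q := 2) (by omega) k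
      have h3 : 2 * 4 ^ k ≤ 2 ^ (m + 1) := by
        obtain ⟨j, rfl⟩ := Nat.exists_eq_add_of_le' (show 1 ≤ k by omega)
        rw [hk, pow_mul, pow_succ 4, pow_succ (2 ^ 3)]
        have := Nat.pow_le_pow_left (show 4 ≤ 2 ^ 3 by norm_num) j
        omega
      simp only [Nat.reduceAdd, h, show (Nat.divisors 3).erase 1 = {3} by decide, sum_singleton,
        show (m + 1) / 3 = k by omega] at h2 ⊢
      omega
  · have h1 := S_le_of_bound (n := m + 1) (by omega) (K_GU_le hq)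
    have h2 := K_GU_le hq (m + 1)
    have h3 := two_mul_geom_sum_le hq ((m + 1) / 2)
    generalize ∑ j ∈ range ((m + 1) / 2 + 1), q ^ j = G at h1 h3
    have h4 : 200 * S (q + 1) q (m + 1) ≤
        600 * q ^ (m + 1) + 900 * (((m + 1).gcd (q + 1)) ^ 2 * q ^ ((m + 1) / 2)) := by
      nlinarith [Nat.mul_le_mul_left (((m + 1).gcd (q + 1)) ^ 2) h3]
    have d1 := Nat.pow_le_pow_left (Nat.gcd_le_left (q + 1) m.succ_pos) 2
    have d2 := Nat.pow_le_pow_left (Nat.gcd_le_right (m := m + 1) q.succ_pos) 2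
    generalize (m + 1).gcd (q + 1) ^ 2 = D at *
    by_cases h5 : 4 ≤ m
    · obtain ⟨k, rfl⟩ := Nat.exists_eq_add_of_le' (show 2 ≤ m by omega)
      have h6 := Nat.mul_le_mul d2 (Nat.pow_le_pow_right (n := q) (by omega)
        (show (k + 2 + 1) / 2 ≤ k by omega))
      simp only [pow_succ, pow_zero, one_mul, Nat.succ_eq_add_one] at *
      have h7 : (q + 1) * (q + 1) ≤ q * q * q := by nlinarith
      nlinarith [Nat.mul_le_mul_right (q ^ k) h7]
    · obtain rfl | rfl | rfl : m = 1 ∨ m = 2 ∨ m = 3 := by omega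
      · norm_num at *
        nlinarith [Nat.mul_le_mul_right q d1]
      · norm_num at *
        nlinarith [Nat.mul_le_mul_right q d1, Nat.mul_le_mul_right (q ^ 2) hq]
      · norm_num at *
        nlinarith [Nat.mul_le_mul_right (q ^ 2) d1, Nat.mul_le_mul_right (q ^ 2) hq,
          Nat.mul_le_mul_right (q ^ 3) hq]

end Cfsg.Agent.Class.FG
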