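import Cfsg.Agent.Class.FG.SelfDual
import Cfsg.Agent.Class.Wall.SU

/-!
# Class numbers of unitary groups
-/

set_option autoImplicit false

namespace Cfsg.Agent.Class.FG

open Polynomial
open Cfsg.Agent.KSG (mdiv)
open Cfsg.Agent.Class.Wall (dual)

variable {F : Type*} [Field F] {q : ℕ} [U.UF F q]

theorem card_conjClasses_SU_mul_le {n : ℕ} (hn : 1 ≤ n) :
    Nat.card (ConjClasses (SU n F q)) * (q + 1) ≤ S (q + 1) q n := by
  classical
  have : Finite F := U.UF.finite q
  have := Fintype.ofFinite (ConjClasses (SU n F q))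
  have hu : ∀ A : SU n F q, IsUnit A.1.1 := fun A => (Matrix.SpecialLinearGroup.toGL A.1).isUnit
  have h0 := fun (A : SU n F q) i => coeff_zero_lev_mdiv (hu A) i
  have h1 : ∀ (A : SU n F q) i, dual (U.conj F q) (lev (mdiv A.1.1) i) = lev (mdiv A.1.1) i :=
    fun A => dual_lev U.conj_conj (fun _ => KSG.isPP_of_mem_mdiv) ((KSG.isUnit_iff_mdiv _).1 (hu A))
      (Wall.GU_map_dual_mdiv (U.toGU A))
  let c : F[X] → (U.detGU : GU n F q →* Fˣ).range := fun f =>
    if h : cU f ∈ (U.detGU : GU n F q →* Fˣ).range then ⟨_, h⟩ else 1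
  have h2 : ∀ (A : SU n F q) i, ((c (lev (mdiv A.1.1) (i + 1))).1 : F) =
      (lev (mdiv A.1.1) (i + 1)).coeff 0 := fun A i => by
    simp only [c]
    rw [dif_pos ((U.mem_range_detGU hn).2 (by
      rw [coe_cU (h0 A i)]
      exact coeff_zero_mul_of_dual (monic_lev (fun _ => KSG.isPP_of_mem_mdiv) _) (h0 A i) (h1 A _))),
      coe_cU (h0 A i)]
  rw [← U.card_range_detGU (F := F) (q := q) hn, Nat.card_eq_fintype_card, ← Finset.card_univ]
  refine card_mul_le_S natDegree c (fun e y => (monFin F e).filter fun f =>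
    dual (U.conj F q) f = f ∧ f.coeff 0 = (y.1 : F)) (fun e y => ?_) _
    (fun C (i : Fin n) => lev (mdiv (Quotient.out C : SU n F q).1.1) (i + 1))
    (z := ⟨(-1) ^ n, (U.mem_range_detGU hn).2 (by simp [← mul_pow])⟩)
    (fun C _ => sum_natDegree_lev_mdiv _) (fun C _ i => Finset.mem_filter.2 ⟨mem_monFin.2
      ⟨monic_lev (fun _ => KSG.isPP_of_mem_mdiv) _, rfl⟩, h1 _ _, (h2 _ _).symm⟩)
    (fun C _ i hi => Subtype.ext (Units.ext ?_)) (fun C _ => Subtype.ext (Units.ext ?_)) fun C _ => ?_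
  · rcases eq_or_ne e 0 with rfl | he
    · exact (Finset.card_filter_le _ _).trans card_monFin_zero
    · rw [card_filter_monFin, card_selfDual_unitary he ((U.mem_range_detGU hn).1 y.2)]
  · rw [h2, eq_one_of_monic_natDegree_zero (monic_lev (fun _ => KSG.isPP_of_mem_mdiv) _) hi]
    simp
  · simp only [SubmonoidClass.coe_finsetProd, SubmonoidClass.coe_pow, Units.coe_prod,
      Units.val_pow_eq_pow_val, h2, prod_coeff_lev]
    simp
  · refine card_le_index_powSub U.toGU U.toGU_injective (Wall.detU n F q)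
      Wall.range_toGU_eq_ker_detU (Quotient.out C) _ (fun i hi u => ?_) _
      fun D hD => Wall.GU_isConj_iff.2 (isConj_of_lev fun i => ?_)
    · obtain ⟨p, p1, p2, p3⟩ := exists_pow_mem (fun _ => KSG.isPP_of_mem_mdiv) hi
      obtain ⟨s, s0, hs⟩ := U.exists_conj_div_eq ((U.mem_range_detGU hn).1 u.2)
      obtain ⟨t, t1, t2⟩ := exists_commute_det_pow p1 p2 p3 (inv_ne_zero s0)
      obtain ⟨v, v1, v2⟩ := Wall.exists_GU_commute_det (U.toGU (Quotient.out C)) t.isUnit t1.symm
      refine ⟨v, v1.symm, Subtype.ext (Units.ext (v2.trans ?_))⟩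
      rw [t2, map_pow, ← div_pow, map_inv₀, inv_div_inv, hs, mul_div_cancel_right₀ _ s0]
      simp
    · exact (congrFun (Finset.mem_filter.1 hD).2 i).symm

end Cfsg.Agent.Class.FG
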